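import Mathlib.CategoryTheory.Triangulated.Functor
import Mathlib.CategoryTheory.Triangulated.Yoneda
import Mathlib.CategoryTheory.Adjunction.FullyFaithful

/-!
# Bijectivity of functors on morphisms in triangulated categories
-/

set_option autoImplicit false

universe v v' u u'

open CategoryTheory Limits Pretriangulated

namespace Groth.Agent.Lib.TriFF.Basic

variable {D : Type u} [Category.{v} D] {D' : Type u'} [Category.{v'} D'] (F : D ⥤ D')

/-- `F` is bijective on the morphisms from `A` to `B`. -/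
def Bij (A B : D) : Prop := Function.Bijective (fun f : A ⟶ B => F.map f)

theorem Bij.of_iso {A A' B B' : D} (e : A ≅ A') (e' : B ≅ B') (h : Bij F A B) : Bij F A' B' := by
  constructor
  · intro f g hfg
    have : e.hom ≫ f ≫ e'.inv = e.hom ≫ g ≫ e'.inv := h.1 (by simp only [Functor.map_comp] at hfg ⊢; rw [hfg])
    simpa using this
  · intro φ
    obtain ⟨f, hf⟩ := h.2 (F.map e.hom ≫ φ ≫ F.map e'.inv)
    refine ⟨e.inv ≫ f ≫ e'.hom, ?_⟩
    dsimp only at hf ⊢
    rw [F.map_comp, F.map_comp, hf]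
    simp only [Category.assoc, ← F.map_comp, Iso.inv_hom_id, F.map_id, Category.comp_id]
    rw [← Category.assoc, ← F.map_comp, Iso.inv_hom_id, F.map_id, Category.id_comp]

variable [HasShift D ℤ] [HasShift D' ℤ] [F.CommShift ℤ]

theorem Bij.shift {A B : D} (h : Bij F A B) (j : ℤ) : Bij F (A⟦j⟧) (B⟦j⟧) := by
  constructor
  · intro f g hfg
    obtain ⟨f₀, rfl⟩ := (shiftFunctor D j).map_surjective f
    obtain ⟨g₀, rfl⟩ := (shiftFunctor D j).map_surjective g
    congr 1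
    refine h.1 ((shiftFunctor D' j).map_injective ?_)
    have hc := fun k : A ⟶ B => (F.commShiftIso j).hom.naturality k
    dsimp at hfg hc
    rw [← cancel_epi ((F.commShiftIso j).hom.app A), ← hc, ← hc, hfg]
  · intro φ
    obtain ⟨ψ, hψ⟩ := (shiftFunctor D' j).map_surjective
      ((F.commShiftIso j).inv.app A ≫ φ ≫ (F.commShiftIso j).hom.app B)
    obtain ⟨f, rfl⟩ := h.2 ψ
    refine ⟨f⟦j⟧', ?_⟩
    have hc := (F.commShiftIso j).hom.naturality f
    dsimp at hc hψ ⊢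
    rw [← cancel_mono ((F.commShiftIso j).hom.app B), hc, hψ, ← Category.assoc,
      Iso.hom_inv_id_app]
    exact Category.id_comp _

theorem bij_shift_shift {A B : D} (h : ∀ i : ℤ, Bij F A (B⟦i⟧)) (j i : ℤ) :
    Bij F (A⟦j⟧) (B⟦i⟧) :=
  ((h (i - j)).shift F j).of_iso F (Iso.refl _)
    (((shiftFunctorAdd' D (i - j) j i (by omega)).app B).symm)

section Tri

variable {D : Type u} [Category.{v} D] [Preadditive D] [HasZeroObject D] [HasShift D ℤ]
  [∀ n : ℤ, (shiftFunctor D n).Additive] [Pretriangulated D]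

/-- A morphism is invertible if it is bijective on maps from shifts of a detecting set. -/
theorem isIso_of_bij_from (S : Set D)
    (h2 : ∀ K : D, (∀ E ∈ S, ∀ (i : ℤ) (f : E ⟶ K⟦i⟧), f = 0) → IsZero K) {M N : D} (a : M ⟶ N)
    (h : ∀ E ∈ S, ∀ j : ℤ, Function.Bijective (fun f : E⟦j⟧ ⟶ M => f ≫ a)) : IsIso a := by
  obtain ⟨C, b, c, hT⟩ := distinguished_cocone_triangle a
  refine (Triangle.isZero₃_iff_isIso₁ _ hT).1 (h2 C fun E hE i f => ?_)
  suffices hg : ∀ (j : ℤ) (g : E⟦j⟧ ⟶ C), g = 0 by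
    apply (shiftFunctor D (-i)).map_injective
    rw [Functor.map_zero, ← cancel_mono ((shiftFunctorCompIsoId D i (-i) (add_neg_cancel i)).hom.app C),
      zero_comp]
    exact hg _ _
  intro j g
  have hgc : g ≫ c = 0 := by
    apply (shiftFunctor D (-1 : ℤ)).map_injective
    rw [Functor.map_zero]
    let e : E⟦j + -1⟧ ≅ (E⟦j⟧)⟦(-1 : ℤ)⟧ := (shiftFunctorAdd D j (-1)).app E
    let e' := (shiftFunctorCompIsoId D (1 : ℤ) (-1) (by omega)).app M
    rw [← cancel_epi e.hom, ← cancel_mono e'.hom, comp_zero, zero_comp]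
    refine (h E hE _).1 ?_
    have hz : c ≫ a⟦(1 : ℤ)⟧' = 0 := comp_distTriang_mor_zero₃₁ _ hT
    have hn := (shiftFunctorCompIsoId D (1 : ℤ) (-1) (by omega)).hom.naturality a
    dsimp [e'] at hn ⊢
    rw [zero_comp, Category.assoc, Category.assoc, ← hn, ← Functor.map_comp_assoc, Category.assoc, hz,
      comp_zero, Functor.map_zero, zero_comp, comp_zero]
  obtain ⟨(k : E⟦j⟧ ⟶ N), (hk : g = k ≫ b)⟩ := Triangle.coyoneda_exact₃ _ hT g hgc
  obtain ⟨m, hm⟩ := (h E hE j).2 k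
  dsimp at hm hk
  rw [hk, ← hm, Category.assoc, show a ≫ b = 0 from comp_distTriang_mor_zero₁₂ _ hT, comp_zero]

/-- A morphism is invertible if it is bijective on maps to shifts of a detecting set. -/
theorem isIso_of_bij_to (S : Set D)
    (h3 : ∀ K : D, (∀ E ∈ S, ∀ (i : ℤ) (f : K ⟶ E⟦i⟧), f = 0) → IsZero K) {M N : D} (a : M ⟶ N)
    (h : ∀ E ∈ S, ∀ j : ℤ, Function.Bijective (fun f : N ⟶ E⟦j⟧ => a ≫ f)) : IsIso a := by
  obtain ⟨C, b, c, hT⟩ := distinguished_cocone_triangle a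
  refine (Triangle.isZero₃_iff_isIso₁ _ hT).1 (h3 C fun E hE i f => ?_)
  have hbf : b ≫ f = 0 := (h E hE i).1 (by
    change a ≫ b ≫ f = a ≫ 0
    rw [← Category.assoc, show a ≫ b = 0 from comp_distTriang_mor_zero₁₂ _ hT, zero_comp, comp_zero])
  obtain ⟨(k : M⟦(1 : ℤ)⟧ ⟶ E⟦i⟧), (hk : f = c ≫ k)⟩ := Triangle.yoneda_exact₃ _ hT f hbf
  let e := (shiftFunctorAdd' D (i - 1) 1 i (by omega)).app E
  obtain ⟨k₀, hk₀⟩ := (shiftFunctor D (1 : ℤ)).map_surjective (k ≫ e.hom)
  obtain ⟨n, hn⟩ := (h E hE (i - 1)).2 k₀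
  have hz : c ≫ a⟦(1 : ℤ)⟧' = 0 := comp_distTriang_mor_zero₃₁ _ hT
  dsimp only at hn
  rw [hk, ← cancel_mono e.hom, Category.assoc, ← hk₀, ← hn, Functor.map_comp, reassoc_of% hz,
    zero_comp]
  exact zero_comp.symm

variable {D' : Type u'} [Category.{v'} D'] [Preadditive D'] [HasShift D' ℤ] (G : D ⥤ D')
  [G.CommShift ℤ] [G.IsLeftAdjoint] [G.IsRightAdjoint]

/-- A functor with both adjoints which is bijective on maps between a spanning set is fully faithful. -/
theorem full_faithful (S : Set D)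
    (h2 : ∀ K : D, (∀ E ∈ S, ∀ (i : ℤ) (f : E ⟶ K⟦i⟧), f = 0) → IsZero K)
    (h3 : ∀ K : D, (∀ E ∈ S, ∀ (i : ℤ) (f : K ⟶ E⟦i⟧), f = 0) → IsZero K)
    (h4 : ∀ E ∈ S, ∀ E' ∈ S, ∀ i : ℤ, Bij G E (E'⟦i⟧)) : G.Full ∧ G.Faithful := by
  let adjR := Adjunction.ofIsLeftAdjoint G
  let adjL := Adjunction.ofIsRightAdjoint G
  have hto : ∀ (K : D) (E' : D), E' ∈ S → ∀ i : ℤ, Bij G K (E'⟦i⟧) := fun K E' hE' i => by
    have hu : IsIso (adjR.unit.app (E'⟦i⟧)) := isIso_of_bij_from S h2 _ fun E hE j => by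
      have e : (fun f : E⟦j⟧ ⟶ E'⟦i⟧ => f ≫ adjR.unit.app _) =
          (adjR.homEquiv _ _) ∘ fun f => G.map f := funext fun f => by
        simp [Adjunction.homEquiv_unit, adjR.unit_naturality]
      refine e.symm ▸ ?_
      exact (adjR.homEquiv _ _).bijective.comp (bij_shift_shift G (h4 E hE E' hE') j i)
    have e : (fun f : K ⟶ E'⟦i⟧ => G.map f) =
        (adjR.homEquiv _ _).symm ∘ fun f => f ≫ adjR.unit.app _ := funext fun f => by
      change _ = (adjR.homEquiv _ _).symm (f ≫ adjR.unit.app _)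
      rw [Equiv.eq_symm_apply, Adjunction.homEquiv_unit, adjR.unit_naturality]
    change Function.Bijective _
    refine e.symm ▸ ?_
    exact (adjR.homEquiv _ _).symm.bijective.comp (Iso.homToEquiv (asIso (adjR.unit.app (E'⟦i⟧))) (Z := K)).bijective
  haveI : ∀ K, IsIso (adjL.counit.app K) := fun K => isIso_of_bij_to S h3 _ fun E' hE' j => by
    have e : (fun f : K ⟶ E'⟦j⟧ => adjL.counit.app K ≫ f) =
        (adjL.homEquiv _ _).symm ∘ fun f => G.map f := funext fun f => by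
      simp [Adjunction.homEquiv_counit, adjL.counit_naturality]
    exact e ▸ (adjL.homEquiv _ _).symm.bijective.comp (hto K E' hE' j)
  haveI : IsIso adjL.counit := NatIso.isIso_of_isIso_app _
  exact ⟨adjL.fullyFaithfulROfIsIsoCounit.full, adjL.fullyFaithfulROfIsIsoCounit.faithful⟩

end Tri

end Groth.Agent.Lib.TriFF.Basic
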