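import Groth.Agent.Lib.DerCat.TStruct
import Mathlib.Algebra.Homology.DerivedCategory.Fractions
import Mathlib.Algebra.Homology.DerivedCategory.FullyFaithful
import Mathlib.CategoryTheory.Triangulated.TStructure.TruncLTGE
import Mathlib.Algebra.Homology.DerivedCategory.SingleTriangle

/-!
# Maps from single objects onto the top cohomology
-/

set_option autoImplicit false
set_option linter.style.haveILetI false

universe w v u

open CategoryTheory Limits Pretriangulated

namespace Groth.Agent.Lib.TriFF.Negative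

variable {A : Type u} [Category.{v} A] [Abelian A] [HasDerivedCategory.{w} A]

local notation "S" => DerivedCategory.singleFunctor A
local notation "H" => DerivedCategory.homologyFunctor A

/-- A map from a single object to an object living strictly below is killed by an epimorphism. -/
theorem exists_epi_kill (X' : DerivedCategory A) (b : ℤ) [X'.IsLE (b - 1)] (M : A)
    (f : (S b).obj M ⟶ X') : ∃ (N : A) (p : N ⟶ M), Epi p ∧ (S b).map p ≫ f = 0 := by
  obtain ⟨Y, hY, ⟨e⟩⟩ := DerivedCategory.exists_iso_Q_obj_of_isLE X' (b - 1)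
  haveI := hY
  let S0 := (CochainComplex.singleFunctor A b).obj M
  obtain ⟨X₁, hX₁, s, hs, g, hf⟩ :=
    DerivedCategory.right_fac_of_isStrictlyLE (X := S0) (Y := Y) (f ≫ e.hom) b
  haveI := hX₁
  let ι₁ : (CochainComplex.singleFunctor A b).obj (X₁.X b) ⟶ X₁ :=
    HomologicalComplex.mkHomFromSingle (𝟙 _) fun j hj => by
      simp only [ComplexShape.up_Rel] at hj
      exact (X₁.isZero_of_isStrictlyLE b j (by omega)).eq_of_tgt _ _
  refine ⟨X₁.X b, s.f b ≫ (HomologicalComplex.singleObjXSelf (ComplexShape.up ℤ) b M).hom, ?_, ?_⟩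
  · have hd : X₁.d b (b + 1) = 0 := (X₁.isZero_of_isStrictlyLE b (b + 1) (by omega)).eq_of_tgt _ _
    haveI : IsIso (X₁.iCycles b) := X₁.isIso_iCycles b (b + 1) (by simp) hd
    have hd' : S0.d (b - 1) b = 0 :=
      (S0.isZero_of_isStrictlyGE b (b - 1) (by omega)).eq_of_src _ _
    haveI : IsIso (S0.homologyπ b) := S0.isIso_homologyπ (b - 1) b (by simp) hd'
    haveI : IsIso (S0.iCycles b) :=
      S0.isIso_iCycles b (b + 1) (by simp) ((S0.isZero_of_isStrictlyLE b (b + 1) (by omega)).eq_of_tgt _ _)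
    haveI : QuasiIso s := (DerivedCategory.isIso_Q_map_iff_quasiIso _ s).1 hs
    have e1 : HomologicalComplex.cyclesMap s b =
        X₁.homologyπ b ≫ HomologicalComplex.homologyMap s b ≫ inv (S0.homologyπ b) := by
      rw [HomologicalComplex.homologyπ_naturality_assoc, IsIso.hom_inv_id, Category.comp_id]
    have e2 : s.f b = inv (X₁.iCycles b) ≫ HomologicalComplex.cyclesMap s b ≫ S0.iCycles b := by
      rw [HomologicalComplex.cyclesMap_i, IsIso.inv_hom_id_assoc]
    haveI : Epi (s.f b) := by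
      rw [e2, e1]
      infer_instance
    exact epi_comp _ _
  · have hι : (CochainComplex.singleFunctor A b).map
        (s.f b ≫ (HomologicalComplex.singleObjXSelf (ComplexShape.up ℤ) b M).hom) = ι₁ ≫ s :=
      HomologicalComplex.from_single_hom_ext (by
        simp [ι₁, CochainComplex.singleFunctor, CochainComplex.singleFunctors,
          HomologicalComplex.single_map_f_self, S0])
    have hg : ι₁ ≫ g = 0 :=
      HomologicalComplex.from_single_hom_ext ((Y.isZero_of_isStrictlyLE (b - 1) b (by omega)).eq_of_tgt _ _)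
    rw [← cancel_mono e.hom, zero_comp, Category.assoc]
    refine (congrArg (fun t => (S b).map _ ≫ t) hf).trans ?_
    change DerivedCategory.Q.map ((CochainComplex.singleFunctor A b).map _) ≫ _ = _
    haveI := hs
    rw [hι, Functor.map_comp, Category.assoc, IsIso.hom_inv_id_assoc, ← Functor.map_comp, hg,
      Functor.map_zero]
    rfl

/-- A single object maps onto the top cohomology. -/
theorem exists_top (X : DerivedCategory A) (b : ℤ) [X.IsLE b] :
    ∃ (M : A) (g : (S b).obj M ⟶ X), Epi ((H b).map g) := by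
  obtain ⟨K, hK, ⟨e⟩⟩ := DerivedCategory.exists_iso_Q_obj_of_isLE X b
  haveI := hK
  let S0 := (CochainComplex.singleFunctor A b).obj (K.X b)
  let ι₁ : S0 ⟶ K :=
    HomologicalComplex.mkHomFromSingle (𝟙 _) fun j hj => by
      simp only [ComplexShape.up_Rel] at hj
      exact (K.isZero_of_isStrictlyLE b j (by omega)).eq_of_tgt _ _
  refine ⟨K.X b, DerivedCategory.Q.map ι₁ ≫ e.inv, ?_⟩
  haveI : IsIso (K.iCycles b) :=
    K.isIso_iCycles b (b + 1) (by simp) ((K.isZero_of_isStrictlyLE b (b + 1) (by omega)).eq_of_tgt _ _)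
  haveI : IsIso (S0.iCycles b) :=
    S0.isIso_iCycles b (b + 1) (by simp) ((S0.isZero_of_isStrictlyLE b (b + 1) (by omega)).eq_of_tgt _ _)
  have h1 : ι₁.f b = (HomologicalComplex.singleObjXSelf (ComplexShape.up ℤ) b (K.X b)).hom := by
    simp [ι₁]
  have h2 : HomologicalComplex.cyclesMap ι₁ b = S0.iCycles b ≫ ι₁.f b ≫ inv (K.iCycles b) := by
    rw [← HomologicalComplex.cyclesMap_i_assoc, IsIso.hom_inv_id, Category.comp_id]
  haveI : IsIso (ι₁.f b) := by rw [h1]; infer_instance
  haveI : IsIso (HomologicalComplex.cyclesMap ι₁ b) := by rw [h2]; infer_instance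
  haveI : Epi (HomologicalComplex.homologyMap ι₁ b) := by
    have : Epi (S0.homologyπ b ≫ HomologicalComplex.homologyMap ι₁ b) := by
      rw [HomologicalComplex.homologyπ_naturality]
      exact epi_comp _ _
    exact epi_of_epi (S0.homologyπ b) _
  have h3 := NatIso.naturality_1 (DerivedCategory.homologyFunctorFactors A b).symm ι₁
  dsimp at h3
  have : Epi ((H b).map (DerivedCategory.Q.map ι₁)) := by
    have := (DerivedCategory.homologyFunctorFactors A b).hom.naturality ι₁
    dsimp at this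
    rw [← cancel_mono ((DerivedCategory.homologyFunctorFactors A b).inv.app K), Category.assoc,
      Iso.hom_inv_id_app] at this
    erw [Category.comp_id] at this
    rw [this]
    haveI : Epi ((HomologicalComplex.homologyFunctor A (ComplexShape.up ℤ) b).map ι₁) :=
      inferInstanceAs (Epi (HomologicalComplex.homologyMap ι₁ b))
    exact epi_comp _ _
  rw [Functor.map_comp]
  exact @epi_comp _ _ _ _ _ _ this _ inferInstance

theorem epi_H_single {M N : A} (b : ℤ) (p : N ⟶ M) [Epi p] : Epi ((H b).map ((S b).map p)) := by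
  have := (DerivedCategory.singleFunctorCompHomologyFunctorIso A b).hom.naturality p
  dsimp at this
  rw [← cancel_mono ((DerivedCategory.singleFunctorCompHomologyFunctorIso A b).inv.app M), Category.assoc,
    Iso.hom_inv_id_app] at this
  erw [Category.comp_id] at this
  rw [this]
  exact epi_comp _ _

variable (hneg : ∀ X : A, ∃ (N : A) (p : N ⟶ X), Epi p ∧ ∀ f : X ⟶ N, f = 0)

include hneg in
/-- Negative objects mapping onto the top cohomology, killing two given maps. -/
theorem exists_kill (X : DerivedCategory A) (b : ℤ) [X.IsLE b] (M₀ : A) (X₁ X₂ : DerivedCategory A)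
    [X₁.IsLE (b - 1)] [X₂.IsLE (b - 1)] (f₁ : X ⟶ X₁) (f₂ : X ⟶ X₂) :
    ∃ (N : A) (g : (S b).obj N ⟶ X), Epi ((H b).map g) ∧ (∀ φ : (H b).obj X ⟶ N, φ = 0) ∧
      (∀ φ : M₀ ⟶ N, φ = 0) ∧ g ≫ f₁ = 0 ∧ g ≫ f₂ = 0 := by
  obtain ⟨M, g₀, hg₀⟩ := exists_top X b
  obtain ⟨N₁, p₁, hp₁, h₁⟩ := exists_epi_kill X₁ b M (g₀ ≫ f₁)
  obtain ⟨N₂, p₂, hp₂, h₂⟩ := exists_epi_kill X₂ b N₁ ((S b).map p₁ ≫ g₀ ≫ f₂)
  obtain ⟨N, q, hq, hN⟩ := hneg (N₂ ⊞ ((H b).obj X ⊞ M₀))
  haveI := hg₀
  haveI := hp₁
  haveI := hp₂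
  haveI := hq
  refine ⟨N, (S b).map (((q ≫ biprod.fst) ≫ p₂) ≫ p₁) ≫ g₀, ?_, fun φ => ?_, fun φ => ?_, ?_, ?_⟩
  · haveI := epi_H_single b (((q ≫ biprod.fst) ≫ p₂) ≫ p₁)
    rw [Functor.map_comp]
    exact epi_comp _ _
  · have := hN (biprod.snd ≫ biprod.fst ≫ φ)
    rw [← Category.assoc] at this
    exact (cancel_epi _).1 (this.trans comp_zero.symm)
  · have := hN (biprod.snd ≫ biprod.snd ≫ φ)
    rw [← Category.assoc] at this
    exact (cancel_epi _).1 (this.trans comp_zero.symm)
  · rw [Category.assoc, Functor.map_comp, Category.assoc, h₁, comp_zero]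
  · rw [Category.assoc, Functor.map_comp, Functor.map_comp, Category.assoc, Category.assoc, h₂, comp_zero]

/-- Maps to a single object in the top degree see only the top cohomology. -/
theorem eq_zero_to_single (X : DerivedCategory A) (b : ℤ) [X.IsLE b] (N : A)
    (hN : ∀ φ : (H b).obj X ⟶ N, φ = 0) (f : X ⟶ (S b).obj N) : f = 0 := by
  let t : Triangulated.TStructure (DerivedCategory A) := DerivedCategory.TStructure.t
  let T := (t.triangleLTGE b).obj X
  have hT : T ∈ distTriang (DerivedCategory A) := t.triangleLTGE_distinguished b X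
  have hle : DerivedCategory.IsLE T.obj₁ (b - 1) :=
    inferInstanceAs (t.IsLE ((t.truncLT b).obj X) (b - 1))
  haveI : t.IsLE X b := inferInstanceAs (X.IsLE b)
  haveI : DerivedCategory.IsLE T.obj₃ b := inferInstanceAs (t.IsLE ((t.truncGE b).obj X) b)
  haveI : DerivedCategory.IsGE T.obj₃ b := inferInstanceAs (t.IsGE ((t.truncGE b).obj X) b)
  have h1 : T.mor₁ ≫ f = 0 := t.zero_of_isLE_of_isGE _ (b - 1) b (by omega) hle
    (inferInstanceAs (((S b).obj N).IsGE b))
  obtain ⟨f', hf'⟩ := Triangle.yoneda_exact₂ T hT f h1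
  obtain ⟨M, ⟨e⟩⟩ := DerivedCategory.exists_iso_singleFunctor_obj_of_isGE_of_isLE T.obj₃ b
  haveI := hle
  have hiso : IsIso ((DerivedCategory.homologyFunctor A b).map T.mor₂) :=
    DerCat.TStruct.isIso_homologyMap_mor₂ T hT (b - 1) b (by omega)
  obtain ⟨φ, hφ⟩ := (S b).map_surjective (e.inv ≫ f')
  let ψ : (H b).obj X ≅ M := @asIso _ _ _ _ _ hiso ≪≫ (H b).mapIso e ≪≫
    (DerivedCategory.singleFunctorCompHomologyFunctorIso A b).app M
  have : φ = 0 := by
    rw [← cancel_epi ψ.hom, comp_zero]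
    exact hN _
  rw [this, Functor.map_zero] at hφ
  rw [hf', (cancel_epi e.inv).1 (hφ.symm.trans comp_zero.symm)]
  exact comp_zero

end Groth.Agent.Lib.TriFF.Negative
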