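import Groth.Agent.Lib.TriFF.Basic
import Groth.Agent.Lib.DerCat.ExtEff
import Groth.Prelude.Def_W4stkfunctorsequivSib
import Mathlib.Algebra.Homology.DerivedCategory.SingleTriangle
import Mathlib.Algebra.Homology.DerivedCategory.FullyFaithful
import Mathlib.CategoryTheory.Triangulated.TStructure.TruncLTGE
import Mathlib.CategoryTheory.Triangulated.Subcategory
import Mathlib.CategoryTheory.Triangulated.Triangulated

/-!
# Siblings of fully faithful functors on bounded derived categories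
-/

set_option autoImplicit false
set_option linter.style.haveILetI false
set_option linter.unusedSectionVars false

universe w v v' u u'

open CategoryTheory Limits Pretriangulated

namespace Groth.Agent.Lib.TriFF.Sibling

open Groth.Agent.Lib.TriFF.Basic

section Five

variable {C : Type u} [Category.{v} C] [Preadditive C] [HasZeroObject C] [HasShift C ℤ]
  [∀ n : ℤ, (shiftFunctor C n).Additive] [Pretriangulated C]
  {D : Type u'} [Category.{v'} D] [Preadditive D] [HasZeroObject D] [HasShift D ℤ]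
  [∀ n : ℤ, (shiftFunctor D n).Additive] [Pretriangulated D] [IsTriangulated D]
  (F : C ⥤ D) [F.CommShift ℤ] [F.IsTriangulated]

/-- Five lemma in the second variable. -/
theorem bij_ext₂ (X : C) (T : Triangle C) (hT : T ∈ distTriang C)
    (h₁ : ∀ q : ℤ, Bij F X (T.obj₁⟦q⟧)) (h₃ : ∀ q : ℤ, Bij F X (T.obj₃⟦q⟧)) : Bij F X T.obj₂ := by
  have hT' := F.map_distinguished T hT
  have a₁ : Bij F X T.obj₁ := (h₁ 0).of_iso F (Iso.refl _) ((shiftFunctorZero C ℤ).app _)
  have a₃ : Bij F X T.obj₃ := (h₃ 0).of_iso F (Iso.refl _) ((shiftFunctorZero C ℤ).app _)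
  constructor
  · intro f g hfg
    rw [← sub_eq_zero]
    have h0 : F.map (f - g) = 0 := by
      dsimp only at hfg
      rw [F.map_sub, hfg, sub_self]
    generalize f - g = k at h0
    have hk : k ≫ T.mor₂ = 0 := a₃.1 (by dsimp only; rw [F.map_comp, h0, zero_comp, F.map_zero])
    obtain ⟨j, rfl⟩ := Triangle.coyoneda_exact₂ T hT k hk
    obtain ⟨(w : F.obj X ⟶ _), hw⟩ := Triangle.coyoneda_exact₂ _ (F.map_distinguished _
      (inv_rot_of_distTriang _ hT)) (F.map j) (show F.map j ≫ F.map T.mor₁ = 0 by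
        rw [← F.map_comp]; exact h0)
    obtain ⟨w₀, rfl⟩ := (h₃ (-1)).2 w
    have : j = w₀ ≫ T.invRotate.mor₁ := a₁.1 (hw.trans (F.map_comp _ _).symm)
    rw [this]
    exact (Category.assoc _ _ _).trans ((congrArg (w₀ ≫ ·)
      (comp_distTriang_mor_zero₁₂ _ (inv_rot_of_distTriang _ hT))).trans comp_zero)
  · intro φ
    obtain ⟨k, hk⟩ := a₃.2 (φ ≫ F.map T.mor₂)
    dsimp only at hk
    have hk0 : k ≫ T.mor₃ = 0 := (h₁ 1).1 (by
      dsimp only
      rw [F.map_comp, hk, F.map_zero, Category.assoc, ← F.map_comp,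
        comp_distTriang_mor_zero₂₃ _ hT, F.map_zero, comp_zero])
    obtain ⟨j, rfl⟩ := Triangle.coyoneda_exact₃ T hT k hk0
    obtain ⟨(w : F.obj X ⟶ F.obj T.obj₁), (hw : φ - F.map j = w ≫ F.map T.mor₁)⟩ :=
      Triangle.coyoneda_exact₂ _ hT' (φ - F.map j) (show (φ - F.map j) ≫ F.map T.mor₂ = 0 by
        rw [Preadditive.sub_comp, ← F.map_comp, hk, sub_self])
    obtain ⟨w₀, rfl⟩ := a₁.2 w
    refine ⟨w₀ ≫ T.mor₁ + j, ?_⟩
    dsimp only at hw ⊢
    rw [F.map_add, F.map_comp, ← hw, sub_add_cancel]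

/-- Five lemma in the first variable. -/
theorem bij_ext₁ (T : Triangle C) (hT : T ∈ distTriang C)
    (h₁ : ∀ L : C, Bij F T.obj₁ L) (h₃ : ∀ L : C, Bij F T.obj₃ L) (L : C) : Bij F T.obj₂ L := by
  have hT' := F.map_distinguished T hT
  constructor
  · intro f g hfg
    rw [← sub_eq_zero]
    have h0 : F.map (f - g) = 0 := by
      dsimp only at hfg
      rw [F.map_sub, hfg, sub_self]
    generalize f - g = k at h0
    have hk : T.mor₁ ≫ k = 0 := (h₁ L).1 (by dsimp only; rw [F.map_comp, h0, comp_zero, F.map_zero])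
    obtain ⟨j, rfl⟩ := Triangle.yoneda_exact₂ T hT k hk
    obtain ⟨(w : F.obj (T.obj₁⟦(1 : ℤ)⟧) ⟶ F.obj L), hw⟩ := Triangle.yoneda_exact₂ _
      (F.map_distinguished _ (rot_of_distTriang _ hT)) (F.map j)
      (show F.map T.mor₂ ≫ F.map j = 0 by rw [← F.map_comp]; exact h0)
    obtain ⟨w₀, rfl⟩ := ((h₁ (L⟦(-1 : ℤ)⟧)).shift F 1).of_iso F (Iso.refl _)
      ((shiftFunctorCompIsoId C (-1 : ℤ) 1 (by omega)).app L) |>.2 w
    have : j = T.mor₃ ≫ w₀ := (h₃ L).1 (hw.trans (F.map_comp _ _).symm)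
    rw [this, comp_distTriang_mor_zero₂₃_assoc _ hT, zero_comp]
  · intro φ
    obtain ⟨k, hk⟩ := (h₁ L).2 (F.map T.mor₁ ≫ φ)
    dsimp only at hk
    have hk0 : T.invRotate.mor₁ ≫ k = 0 :=
      (((h₃ (L⟦(1 : ℤ)⟧)).shift F (-1)).of_iso F (Iso.refl _)
        ((shiftFunctorCompIsoId C (1 : ℤ) (-1) (by omega)).app L)).1 (by
          dsimp only
          refine (F.map_comp _ _).trans (((congrArg (F.map T.invRotate.mor₁ ≫ ·) hk).trans ?_).trans
            (F.map_zero _ _).symm)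
          exact (Category.assoc _ _ _).symm.trans ((congrArg (· ≫ φ)
            ((F.map_comp _ _).symm.trans ((congrArg F.map
              (comp_distTriang_mor_zero₁₂ _ (inv_rot_of_distTriang _ hT))).trans (F.map_zero _ _)))).trans
                zero_comp))
    obtain ⟨(j : T.obj₂ ⟶ L), (hj : k = T.mor₁ ≫ j)⟩ :=
      Triangle.yoneda_exact₂ _ (inv_rot_of_distTriang _ hT) k hk0
    obtain ⟨(w : F.obj T.obj₃ ⟶ F.obj L), (hw : φ - F.map j = F.map T.mor₂ ≫ w)⟩ :=
      Triangle.yoneda_exact₂ _ hT' (φ - F.map j) (show F.map T.mor₁ ≫ (φ - F.map j) = 0 by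
        rw [Preadditive.comp_sub, ← F.map_comp, ← hj, hk, sub_self])
    obtain ⟨w₀, rfl⟩ := (h₃ L).2 w
    refine ⟨T.mor₂ ≫ w₀ + j, ?_⟩
    dsimp only at hw ⊢
    rw [F.map_add, F.map_comp, ← hw, sub_add_cancel]

end Five

variable {A : Type u} [Category.{v} A] [Abelian A] [HasDerivedCategory.{w} A]

local notation "ιB" => DerivedCategory.Bounded.ι (C := A)

/-- Induction on the amplitude. -/
theorem induction (P : DerivedCategory.Bounded A → Prop)
    (hiso : ∀ {K L : DerivedCategory.Bounded A}, (K ≅ L) → P K → P L)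
    (hsingle : ∀ (M : A) (q : ℤ), P (((DEquiv.singleB A).obj M)⟦q⟧))
    (hext : ∀ T ∈ distTriang (DerivedCategory.Bounded A), P T.obj₁ → P T.obj₃ → P T.obj₂)
    (K : DerivedCategory.Bounded A) : P K := by
  let t : Triangulated.TStructure (DerivedCategory A) := DerivedCategory.TStructure.t
  suffices h : ∀ (n : ℕ) (K : DerivedCategory.Bounded A) (a b : ℤ), (b + 1 - a).toNat ≤ n →
      K.obj.IsGE a → K.obj.IsLE b → P K by
    obtain ⟨⟨a, ha⟩, ⟨b, hb⟩⟩ := K.property
    exact h _ K a b le_rfl ha hb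
  intro n
  induction n with
  | zero =>
    intro K a b hn ha hb
    have hz : IsZero K.obj := t.isZero K.obj b a (by omega)
    obtain ⟨Z, hZ⟩ := HasZeroObject.zero (C := A)
    refine hiso ?_ (hsingle Z 0)
    exact ObjectProperty.isoMk _ (IsZero.iso (IsZero.of_iso (Functor.map_isZero (shiftFunctor _ (0 : ℤ))
      ((DerivedCategory.singleFunctor A 0).map_isZero hZ))
      (((ιB).commShiftIso (0 : ℤ)).app ((DEquiv.singleB A).obj Z))) hz)
  | succ n ih =>
    intro K a b hn ha hb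
    let T₀ := (t.triangleLTGE b).obj K.obj
    have hT₀ : T₀ ∈ distTriang (DerivedCategory A) := t.triangleLTGE_distinguished b K.obj
    haveI : t.IsGE K.obj a := ha
    haveI : t.IsLE K.obj b := hb
    have g1 : t.IsGE ((t.truncLT b).obj K.obj) a := inferInstance
    have l1 : t.IsLE ((t.truncLT b).obj K.obj) (b - 1) := inferInstance
    have g3 : t.IsGE ((t.truncGE b).obj K.obj) b := inferInstance
    have l3 : t.IsLE ((t.truncGE b).obj K.obj) b := inferInstance
    let K₁ : DerivedCategory.Bounded A := ⟨(t.truncLT b).obj K.obj, ⟨a, g1⟩, ⟨b - 1, l1⟩⟩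
    let K₃ : DerivedCategory.Bounded A := ⟨(t.truncGE b).obj K.obj, ⟨b, g3⟩, ⟨b, l3⟩⟩
    have h₁ : P K₁ := ih K₁ a (b - 1) (by omega) g1 l1
    haveI : DerivedCategory.IsGE ((t.truncGE b).obj K.obj) b := g3
    haveI : DerivedCategory.IsLE ((t.truncGE b).obj K.obj) b := l3
    obtain ⟨M, ⟨e⟩⟩ := DerivedCategory.exists_iso_singleFunctor_obj_of_isGE_of_isLE
      ((t.truncGE b).obj K.obj) b
    have h₃ : P K₃ := hiso (ObjectProperty.isoMk _ ((((ιB).commShiftIso (-b)).app ((DEquiv.singleB A).obj M)).trans (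
      ((DerivedCategory.singleFunctors A).shiftIso (-b) b 0 (by omega)).app M ≪≫ e.symm))) (hsingle M (-b))
    let m₁ : K₁ ⟶ K := ObjectProperty.homMk T₀.mor₁
    let m₂ : K ⟶ K₃ := ObjectProperty.homMk T₀.mor₂
    let m₃ : K₃ ⟶ K₁⟦(1 : ℤ)⟧ := ObjectProperty.homMk (T₀.mor₃ ≫ ((ιB).commShiftIso (1 : ℤ)).inv.app K₁)
    refine hext (Triangle.mk m₁ m₂ m₃) ?_ h₁ h₃
    refine isomorphic_distinguished T₀ hT₀ _ (Triangle.isoMk _ _ (Iso.refl _) (Iso.refl _) (Iso.refl _)
      ?_ ?_ ?_)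
    · exact (Category.comp_id _).trans (Category.id_comp _).symm
    · exact (Category.comp_id _).trans (Category.id_comp _).symm
    · change ((T₀.mor₃ ≫ ((ιB).commShiftIso (1 : ℤ)).inv.app K₁) ≫
          ((ιB).commShiftIso (1 : ℤ)).hom.app K₁) ≫ (shiftFunctor (DerivedCategory A) (1 : ℤ)).map (𝟙 _) =
        𝟙 _ ≫ T₀.mor₃
      refine (Category.assoc _ _ _).trans (Eq.trans ?_ (Category.id_comp _).symm)
      exact (congrArg (fun t => (T₀.mor₃ ≫ ((ιB).commShiftIso (1 : ℤ)).inv.app K₁) ≫ t)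
        ((congrArg (((ιB).commShiftIso (1 : ℤ)).hom.app K₁ ≫ ·) (CategoryTheory.Functor.map_id _ _)).trans
          (Category.comp_id _))).trans ((Category.assoc _ _ _).trans
        ((congrArg (T₀.mor₃ ≫ ·) (Iso.inv_hom_id_app ((ιB).commShiftIso (1 : ℤ)) K₁)).trans (Category.comp_id _)))

variable {D : Type u'} [Category.{v'} D] [Preadditive D] [HasZeroObject D] [HasShift D ℤ]
  [∀ n : ℤ, (shiftFunctor D n).Additive] [Pretriangulated D] [IsTriangulated D]
  (F F' : DerivedCategory.Bounded A ⥤ D) [F.CommShift ℤ] [F.IsTriangulated]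
  [F'.CommShift ℤ] [F'.IsTriangulated] [F.Full] [F.Faithful]
  (η : DEquiv.singleB A ⋙ F ≅ DEquiv.singleB A ⋙ F')

local notation "sB" => DEquiv.singleB A

/-- Transport of morphisms from `F` to `F'`. -/
noncomputable def conj (X Y : A) (q : ℤ) :
    (F'.obj ((sB).obj X) ⟶ F'.obj (((sB).obj Y)⟦q⟧)) ≃ (F.obj ((sB).obj X) ⟶ F.obj (((sB).obj Y)⟦q⟧)) :=
  ((η.app X).homCongr ((F.commShiftIso q).app _ ≪≫ (shiftFunctor D q).mapIso (η.app Y) ≪≫
    ((F'.commShiftIso q).app _).symm)).symm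

theorem conj_comp {X X' : A} (p : X' ⟶ X) (Y : A) (q : ℤ)
    (x : F'.obj ((sB).obj X) ⟶ F'.obj (((sB).obj Y)⟦q⟧)) :
    conj F F' η X' Y q (F'.map ((sB).map p) ≫ x) = F.map ((sB).map p) ≫ conj F F' η X Y q x := by
  simp only [conj, Iso.homCongr_symm, Iso.homCongr_apply, Iso.symm_inv, Iso.app_hom, Category.assoc]
  exact (Category.assoc _ _ _).symm.trans ((congrArg (fun t => t ≫ x ≫ _) (η.hom.naturality p).symm).trans
    (Category.assoc _ _ _))

/-- Classes in positive degree are killed by an epimorphism. -/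
theorem exists_epi {X Y : A} (q : ℤ) (hq : 0 < q) (x : (sB).obj X ⟶ ((sB).obj Y)⟦q⟧) :
    ∃ (X' : A) (p : X' ⟶ X), Epi p ∧ (sB).map p ≫ x = 0 := by
  let e : (((sB).obj Y)⟦q⟧).obj ≅ (DerivedCategory.singleFunctor A (-q)).obj Y :=
    ((ιB).commShiftIso q).app _ ≪≫ ((DerivedCategory.singleFunctors A).shiftIso q (-q) 0 (by omega)).app Y
  obtain ⟨X', p, hp, h⟩ := DerCat.ExtEff.exists_epi_comp_eq_zero (-q) (by omega) (x.hom ≫ e.hom)
  refine ⟨X', p, hp, (ιB).map_injective ?_⟩
  rw [Functor.map_zero, ← cancel_mono e.hom, zero_comp]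
  exact (Category.assoc _ _ _).trans h

include η in
theorem bij_of_neg (X Y : A) (q : ℤ) (hq : q < 0) : Bij F' ((sB).obj X) (((sB).obj Y)⟦q⟧) := by
  have hsrc : ∀ f : (sB).obj X ⟶ ((sB).obj Y)⟦q⟧, f = 0 := fun f => by
    let e : (((sB).obj Y)⟦q⟧).obj ≅ (DerivedCategory.singleFunctor A (-q)).obj Y :=
      ((ιB).commShiftIso q).app _ ≪≫ ((DerivedCategory.singleFunctors A).shiftIso q (-q) 0 (by omega)).app Y
    apply (ιB).map_injective
    rw [Functor.map_zero, ← cancel_mono e.hom, zero_comp]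
    exact (DerivedCategory.TStructure.t (C := A)).zero_of_isLE_of_isGE _ 0 (-q) (by omega)
      (inferInstanceAs (((DerivedCategory.singleFunctor A 0).obj X).IsLE 0))
      (inferInstanceAs (((DerivedCategory.singleFunctor A (-q)).obj Y).IsGE (-q)))
  refine ⟨fun f g _ => (hsrc f).trans (hsrc g).symm, fun φ => ⟨0, (conj F F' η X Y q).injective ?_⟩⟩
  obtain ⟨a, ha⟩ := F.map_surjective (conj F F' η X Y q φ)
  obtain ⟨b, hb⟩ := F.map_surjective (conj F F' η X Y q (F'.map 0))
  rw [← ha, ← hb, hsrc a, hsrc b]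

include η in
theorem bij_zero (X Y : A) : Bij F' ((sB).obj X) ((sB).obj Y) := by
  constructor
  · intro f g hfg
    obtain ⟨f₀, rfl⟩ : ∃ f₀, (sB).map f₀ = f :=
      ⟨(DerivedCategory.singleFunctor A 0).preimage f.hom, (ιB).map_injective (by simp [DEquiv.singleB])⟩
    obtain ⟨g₀, rfl⟩ : ∃ g₀, (sB).map g₀ = g :=
      ⟨(DerivedCategory.singleFunctor A 0).preimage g.hom, (ιB).map_injective (by simp [DEquiv.singleB])⟩
    refine congrArg _ ?_
    have h1 := η.hom.naturality f₀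
    have h2 := η.hom.naturality g₀
    dsimp at hfg h1 h2
    have h3 : F.map ((sB).map f₀) = F.map ((sB).map g₀) := by
      rw [← cancel_mono (η.hom.app Y), h1, h2, hfg]
    exact (DerivedCategory.singleFunctor A 0).map_injective
      (congrArg (fun t => t.hom) (F.map_injective h3))
  · intro φ
    obtain ⟨f, hf⟩ := F.map_surjective (η.hom.app X ≫ φ ≫ η.inv.app Y)
    obtain ⟨f₀, rfl⟩ : ∃ f₀, (sB).map f₀ = f :=
      ⟨(DerivedCategory.singleFunctor A 0).preimage f.hom, (ιB).map_injective (by simp [DEquiv.singleB])⟩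
    refine ⟨(sB).map f₀, ?_⟩
    have h1 := η.hom.naturality f₀
    dsimp at hf h1 ⊢
    rw [hf, Category.assoc, Category.assoc, Iso.inv_hom_id_app] at h1
    rw [← cancel_epi (η.hom.app X), ← h1]
    exact congrArg (η.hom.app X ≫ ·) (Category.comp_id φ)

include η in
theorem bij_single (X Y : A) (q : ℤ) : Bij F' ((sB).obj X) (((sB).obj Y)⟦q⟧) := by
  rcases lt_trichotomy q 0 with hq | rfl | hq
  · exact bij_of_neg F F' η X Y q hq
  · exact (bij_zero F F' η X Y).of_iso F' (Iso.refl _) ((shiftFunctorZero _ ℤ).app _).symm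
  obtain ⟨m, rfl⟩ : ∃ m : ℕ, q = m + 1 := ⟨(q - 1).toNat, by omega⟩
  clear hq
  induction m using Nat.strong_induction_on generalizing X Y with
  | _ m ih =>
    have hprev : ∀ (X Y : A), Bij F' ((sB).obj X) (((sB).obj Y)⟦(m : ℤ)⟧) := fun X Y => by
      rcases m with _ | m
      · exact (bij_zero F F' η X Y).of_iso F' (Iso.refl _) ((shiftFunctorZero _ ℤ).app _).symm
      · simpa using ih m (by omega) X Y
    have hsh : ∀ (K : A), Bij F' (((sB).obj K)⟦(1 : ℤ)⟧) (((sB).obj Y)⟦(m : ℤ) + 1⟧) := fun K =>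
      ((hprev K Y).shift F' 1).of_iso F' (Iso.refl _) ((shiftFunctorAdd _ (m : ℤ) 1).app _).symm
    have key : ∀ (X' : A) (p : X' ⟶ X), Epi p → ∃ (K : A) (i : K ⟶ X') (δ : (sB).obj X ⟶ ((sB).obj K)⟦(1 : ℤ)⟧),
        Triangle.mk ((sB).map i) ((sB).map p) δ ∈ distTriang (DerivedCategory.Bounded A) := fun X' p _ => by
      have hS : (ShortComplex.mk (kernel.ι p) p (kernel.condition p)).ShortExact :=
        { exact := ShortComplex.exact_of_f_is_kernel _ (kernelIsKernel p) }
      refine ⟨kernel p, kernel.ι p, ObjectProperty.homMk (hS.singleδ ≫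
        ((ιB).commShiftIso (1 : ℤ)).inv.app ((sB).obj (kernel p))), ?_⟩
      refine isomorphic_distinguished _ hS.singleTriangle_distinguished _
        (Triangle.isoMk _ _ (Iso.refl _) (Iso.refl _) (Iso.refl _) ?_ ?_ ?_)
      · exact (Category.comp_id _).trans (Category.id_comp _).symm
      · exact (Category.comp_id _).trans (Category.id_comp _).symm
      · change ((hS.singleδ ≫ ((ιB).commShiftIso (1 : ℤ)).inv.app ((sB).obj (kernel p))) ≫
            ((ιB).commShiftIso (1 : ℤ)).hom.app ((sB).obj (kernel p))) ≫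
              (shiftFunctor (DerivedCategory A) (1 : ℤ)).map (𝟙 _) = 𝟙 _ ≫ hS.singleδ
        refine (Category.assoc _ _ _).trans (Eq.trans ?_ (Category.id_comp _).symm)
        exact (congrArg (fun t => (hS.singleδ ≫ ((ιB).commShiftIso (1 : ℤ)).inv.app ((sB).obj (kernel p))) ≫ t)
          ((congrArg (((ιB).commShiftIso (1 : ℤ)).hom.app ((sB).obj (kernel p)) ≫ ·)
            (CategoryTheory.Functor.map_id _ _)).trans
            (Category.comp_id _))).trans ((Category.assoc _ _ _).trans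
          ((congrArg (hS.singleδ ≫ ·) (Iso.inv_hom_id_app ((ιB).commShiftIso (1 : ℤ)) ((sB).obj (kernel p)))).trans
            (Category.comp_id _)))
    constructor
    · intro f g hfg
      rw [← sub_eq_zero]
      have h0 : F'.map (f - g) = 0 := by
        dsimp only at hfg
        rw [F'.map_sub, hfg, sub_self]
      generalize f - g = x at h0
      obtain ⟨X', p, hp, hpx⟩ := exists_epi _ (by omega) x
      obtain ⟨K, i, δ, hT⟩ := key X' p hp
      obtain ⟨(y : ((sB).obj K)⟦(1 : ℤ)⟧ ⟶ _), (hy : x = δ ≫ y)⟩ := Triangle.yoneda_exact₃ _ hT x hpx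
      have hT₂ := F'.map_distinguished _ (rot_of_distTriang _ (rot_of_distTriang _ hT))
      obtain ⟨(z : F'.obj (((sB).obj X')⟦(1 : ℤ)⟧) ⟶ _), hz⟩ := Triangle.yoneda_exact₂ _ hT₂ (F'.map y)
        (show F'.map δ ≫ F'.map y = 0 by rw [← F'.map_comp, ← hy, h0])
      obtain ⟨z₀, rfl⟩ := (hsh X').2 z
      have e : y = (-(((sB).map i)⟦(1 : ℤ)⟧')) ≫ z₀ := (hsh K).1 (hz.trans (F'.map_comp _ _).symm)
      rw [hy, e]
      exact (Category.assoc _ _ _).symm.trans ((congrArg (· ≫ z₀)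
        (comp_distTriang_mor_zero₁₂ _ (rot_of_distTriang _ (rot_of_distTriang _ hT)))).trans zero_comp)
    · intro φ
      obtain ⟨x, hx⟩ := F.map_surjective (conj F F' η X Y _ φ)
      obtain ⟨X', p, hp, hpx⟩ := exists_epi _ (by omega) x
      have hpφ : F'.map ((sB).map p) ≫ φ = 0 := by
        apply (conj F F' η X' Y _).injective
        rw [conj_comp, ← hx, ← F.map_comp, hpx, F.map_zero]
        simp [conj]
      obtain ⟨K, i, δ, hT⟩ := key X' p hp
      obtain ⟨(z : F'.obj (((sB).obj K)⟦(1 : ℤ)⟧) ⟶ _), (hz : φ = F'.map δ ≫ z)⟩ := Triangle.yoneda_exact₂ _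
        (F'.map_distinguished _ (rot_of_distTriang _ hT)) φ hpφ
      obtain ⟨z₀, rfl⟩ := (hsh K).2 z
      exact ⟨δ ≫ z₀, by dsimp only at hz ⊢; rw [hz, F'.map_comp]⟩

include η in
/-- A sibling of a fully faithful functor is fully faithful. -/
theorem full_faithful : F'.Full ∧ F'.Faithful := by
  have h2 : ∀ (L : DerivedCategory.Bounded A) (X : A) (q : ℤ), Bij F' ((sB).obj X) (L⟦q⟧) := fun L => by
    refine induction (fun L => ∀ (X : A) (q : ℤ), Bij F' ((sB).obj X) (L⟦q⟧))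
      (fun e h X q => (h X q).of_iso F' (Iso.refl _) ((shiftFunctor _ q).mapIso e))
      (fun M r X q => (bij_single F F' η X M (r + q)).of_iso F' (Iso.refl _)
        ((shiftFunctorAdd _ r q).app _))
      (fun T hT h₁ h₃ X q => bij_ext₂ F' _ _ (Triangle.shift_distinguished T hT q)
        (fun r => (h₁ X (q + r)).of_iso F' (Iso.refl _) ((shiftFunctorAdd _ q r).app _))
        (fun r => (h₃ X (q + r)).of_iso F' (Iso.refl _) ((shiftFunctorAdd _ q r).app _))) L
  have h1 : ∀ K L : DerivedCategory.Bounded A, Bij F' K L := fun K => by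
    refine induction (fun K => ∀ L, Bij F' K L) (fun e h L => (h L).of_iso F' e (Iso.refl _))
      (fun M r L => ((h2 L M (-r)).shift F' r).of_iso F' (Iso.refl _)
        ((shiftFunctorCompIsoId _ (-r) r (by omega)).app L))
      (fun T hT h₁ h₃ L => bij_ext₁ F' T hT h₁ h₃ L) K
  exact ⟨⟨fun φ => (h1 _ _).2 φ⟩, ⟨fun h => (h1 _ _).1 h⟩⟩

end Groth.Agent.Lib.TriFF.Sibling
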