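import Groth.Agent.Lib.TriFF.Sibling
import Groth.Agent.Lib.TriFF.Negative

/-!
# Comparing exact functors on shifted single objects
-/

set_option autoImplicit false
set_option linter.style.haveILetI false
set_option linter.unusedSectionVars false

universe w v v' u u'

open CategoryTheory Limits Pretriangulated

namespace Groth.Agent.Lib.TriFF.SiblingBase

variable {A : Type u} [Category.{v} A] [Abelian A] [HasDerivedCategory.{w} A]


/-- An object of `A` in degree `c`. -/
noncomputable abbrev sgl (N : A) (c : ℤ) : (DerivedCategory.Bounded A) := ((DEquiv.singleB A).obj N)⟦-c⟧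

/-- The underlying object of `sgl N c`. -/
noncomputable def sglObj (N : A) (c : ℤ) :
    (sgl N c).obj ≅ (DerivedCategory.singleFunctor A c).obj N :=
  ((DerivedCategory.Bounded.ι (C := A)).commShiftIso (-c)).app ((DEquiv.singleB A).obj N) ≪≫
    ((DerivedCategory.singleFunctors A).shiftIso (-c) c 0 (by omega)).app N

theorem isGE_sgl (N : A) (c : ℤ) : (sgl N c).obj.IsGE c :=
  (DerivedCategory.TStructure.t (C := A)).isGE_of_iso (sglObj N c).symm c

theorem isLE_sgl (N : A) (c : ℤ) : (sgl N c).obj.IsLE c :=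
  (DerivedCategory.TStructure.t (C := A)).isLE_of_iso (sglObj N c).symm c

/-- Objects of amplitude at most `n`. -/
def Amp (n : ℕ) (K : (DerivedCategory.Bounded A)) : Prop := ∃ a : ℤ, K.obj.IsGE a ∧ K.obj.IsLE (a + n)

theorem amp_of {n : ℕ} {K : (DerivedCategory.Bounded A)} {a b : ℤ} (ha : K.obj.IsGE a) (hb : K.obj.IsLE b) (h : b ≤ a + n) :
    Amp n K := by
  refine ⟨a, ha, ?_⟩
  exact (DerivedCategory.TStructure.t (C := A)).isLE_of_le K.obj b (a + n) h

theorem Amp.succ {n : ℕ} {K : (DerivedCategory.Bounded A)} (h : Amp n K) : Amp (n + 1) K := by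
  obtain ⟨a, ha, hb⟩ := h
  exact amp_of ha hb (by omega)

/-- The cone of a single object onto the top cohomology. -/
theorem exists_cone (K : (DerivedCategory.Bounded A)) (a b : ℤ) (ha : K.obj.IsGE a) (hb : K.obj.IsLE b)
    {N : A} (g₀ : (DerivedCategory.singleFunctor A b).obj N ⟶ K.obj)
    (hg₀ : Epi ((DerivedCategory.homologyFunctor A b).map g₀)) :
    ∃ (C : (DerivedCategory.Bounded A)) (m : K ⟶ C) (δ : C ⟶ (sgl N b)⟦(1 : ℤ)⟧),
      Triangle.mk (ObjectProperty.homMk ((sglObj N b).hom ≫ g₀) : sgl N b ⟶ K) m δ ∈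
          distTriang (DerivedCategory.Bounded A) ∧
        C.obj.IsLE (b - 1) ∧ C.obj.IsGE (min a (b - 1)) := by
  haveI := hb
  let g : sgl N b ⟶ K := ObjectProperty.homMk ((sglObj N b).hom ≫ g₀)
  obtain ⟨C, m, δ, hT⟩ := distinguished_cocone_triangle g
  refine ⟨C, m, δ, hT, ?_, ?_⟩
  · let T' := (DerivedCategory.Bounded.ι (C := A)).mapTriangle.obj (Triangle.mk g m δ)
    have hT' : T' ∈ distTriang (DerivedCategory A) := (DerivedCategory.Bounded.ι (C := A)).map_distinguished _ hT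
    rw [DerivedCategory.isLE_iff]
    intro i hi
    have hep : Epi ((DerivedCategory.homologyFunctor A i).map T'.mor₁) := by
      rcases eq_or_lt_of_le (show b ≤ i by omega) with rfl | hlt
      · change Epi ((DerivedCategory.homologyFunctor A b).map ((sglObj N b).hom ≫ g₀))
        rw [Functor.map_comp]
        exact @epi_comp _ _ _ _ _ _ inferInstance _ hg₀
      · exact ⟨fun u u' _ => (DerivedCategory.isZero_of_isLE K.obj b i hlt).eq_of_src _ _⟩
    have h0 : (DerivedCategory.homologyFunctor A i).map T'.mor₂ = 0 := by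
      rw [← cancel_epi ((DerivedCategory.homologyFunctor A i).map T'.mor₁), comp_zero, ← Functor.map_comp,
        comp_distTriang_mor_zero₁₂ _ hT', Functor.map_zero]
    have hmono : Epi ((DerivedCategory.homologyFunctor A i).map T'.mor₂) :=
      (DerivedCategory.HomologySequence.epi_homologyMap_mor₂_iff T' hT' i (i + 1) rfl).2
        ((@DerivedCategory.isZero_of_isLE _ _ _ _ T'.obj₁ b (i + 1) (by omega) (isLE_sgl N b)).eq_of_tgt _ _)
    haveI := hmono
    exact @IsZero.of_epi_eq_zero _ _ _ _ _ _ hmono h0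
  · let T' := (DerivedCategory.Bounded.ι (C := A)).mapTriangle.obj (Triangle.mk g m δ)
    have hT' : T'.rotate ∈ distTriang (DerivedCategory A) :=
      rot_of_distTriang _ ((DerivedCategory.Bounded.ι (C := A)).map_distinguished _ hT)
    refine (DerivedCategory.TStructure.t (C := A)).isGE₂ _ hT' _ ?_ ?_
    · exact (DerivedCategory.TStructure.t (C := A)).isGE_of_ge K.obj (min a (b - 1)) a (by omega)
    · haveI : (DerivedCategory.TStructure.t (C := A)).IsGE (sgl N b).obj b := isGE_sgl N b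
      have := (DerivedCategory.TStructure.t (C := A)).isGE_shift (sgl N b).obj b 1 (b - 1) (by omega)
      exact (DerivedCategory.TStructure.t (C := A)).isGE_of_ge ((sgl N b).obj⟦(1 : ℤ)⟧) (min a (b - 1))
        (b - 1) (by omega)

/-- A negative single object onto the top cohomology, with its cone. -/
theorem exists_good (hneg : ∀ X : A, ∃ (N : A) (p : N ⟶ X), Epi p ∧ ∀ f : X ⟶ N, f = 0)
    (K : (DerivedCategory.Bounded A)) (a b : ℤ) (ha : K.obj.IsGE a) (hb : K.obj.IsLE b) (M₀ : A) {L₁ L₂ : (DerivedCategory.Bounded A)}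
    (h₁ : L₁.obj.IsLE (b - 1)) (h₂ : L₂.obj.IsLE (b - 1)) (f₁ : K ⟶ L₁) (f₂ : K ⟶ L₂) :
    ∃ (N : A) (g : sgl N b ⟶ K) (C : (DerivedCategory.Bounded A)) (m : K ⟶ C) (δ : C ⟶ (sgl N b)⟦(1 : ℤ)⟧),
      Triangle.mk g m δ ∈ distTriang (DerivedCategory.Bounded A) ∧ C.obj.IsLE (b - 1) ∧ C.obj.IsGE (min a (b - 1)) ∧
      (∀ φ : (DerivedCategory.homologyFunctor A b).obj K.obj ⟶ N, φ = 0) ∧
      (∀ φ : M₀ ⟶ N, φ = 0) ∧ g ≫ f₁ = 0 ∧ g ≫ f₂ = 0 := by
  haveI := hb
  haveI := h₁
  haveI := h₂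
  obtain ⟨N, g₀, hg₀, hN, hM₀, hf₁, hf₂⟩ :=
    Negative.exists_kill hneg K.obj b M₀ L₁.obj L₂.obj f₁.hom f₂.hom
  let g : sgl N b ⟶ K := ObjectProperty.homMk ((sglObj N b).hom ≫ g₀)
  obtain ⟨C, m, δ, hT, hCb, hCa⟩ := exists_cone K a b ha hb g₀ hg₀
  refine ⟨N, g, C, m, δ, hT, hCb, hCa, hN, hM₀, ?_, ?_⟩
  · apply (DerivedCategory.Bounded.ι (C := A)).map_injective
    change ((sglObj N b).hom ≫ g₀) ≫ f₁.hom = 0
    rw [Category.assoc, hf₁, comp_zero]
  · apply (DerivedCategory.Bounded.ι (C := A)).map_injective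
    change ((sglObj N b).hom ≫ g₀) ≫ f₂.hom = 0
    rw [Category.assoc, hf₂, comp_zero]

/-- The triangle of a short exact sequence in the bounded derived category. -/
theorem exists_sesTriangle {X' X : A} (p : X' ⟶ X) [Epi p] :
    ∃ δ : (DEquiv.singleB A).obj X ⟶ ((DEquiv.singleB A).obj (kernel p))⟦(1 : ℤ)⟧,
      Triangle.mk ((DEquiv.singleB A).map (kernel.ι p)) ((DEquiv.singleB A).map p) δ ∈ distTriang (DerivedCategory.Bounded A) := by
  have hS : (ShortComplex.mk (kernel.ι p) p (kernel.condition p)).ShortExact :=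
    { exact := ShortComplex.exact_of_f_is_kernel _ (kernelIsKernel p) }
  refine ⟨ObjectProperty.homMk (hS.singleδ ≫ ((DerivedCategory.Bounded.ι (C := A)).commShiftIso (1 : ℤ)).inv.app ((DEquiv.singleB A).obj (kernel p))), ?_⟩
  refine isomorphic_distinguished _ hS.singleTriangle_distinguished _
    (Triangle.isoMk _ _ (Iso.refl _) (Iso.refl _) (Iso.refl _) ?_ ?_ ?_)
  · exact (Category.comp_id _).trans (Category.id_comp _).symm
  · exact (Category.comp_id _).trans (Category.id_comp _).symm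
  · change ((hS.singleδ ≫ ((DerivedCategory.Bounded.ι (C := A)).commShiftIso (1 : ℤ)).inv.app ((DEquiv.singleB A).obj (kernel p))) ≫
        ((DerivedCategory.Bounded.ι (C := A)).commShiftIso (1 : ℤ)).hom.app ((DEquiv.singleB A).obj (kernel p))) ≫
          (shiftFunctor (DerivedCategory A) (1 : ℤ)).map (𝟙 _) = 𝟙 _ ≫ hS.singleδ
    refine (Category.assoc _ _ _).trans (Eq.trans ?_ (Category.id_comp _).symm)
    exact (congrArg (fun t => (hS.singleδ ≫ ((DerivedCategory.Bounded.ι (C := A)).commShiftIso (1 : ℤ)).inv.app ((DEquiv.singleB A).obj (kernel p))) ≫ t)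
      ((congrArg (((DerivedCategory.Bounded.ι (C := A)).commShiftIso (1 : ℤ)).hom.app ((DEquiv.singleB A).obj (kernel p)) ≫ ·)
        (CategoryTheory.Functor.map_id _ _)).trans
        (Category.comp_id _))).trans ((Category.assoc _ _ _).trans
      ((congrArg (hS.singleδ ≫ ·) (Iso.inv_hom_id_app ((DerivedCategory.Bounded.ι (C := A)).commShiftIso (1 : ℤ)) ((DEquiv.singleB A).obj (kernel p)))).trans
        (Category.comp_id _)))

/-- No maps from degree `-q` to lower degrees. -/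
theorem eq_zero_of_lt {X Y : A} {r s : ℤ} (h : s < r) (f : ((DEquiv.singleB A).obj X)⟦r⟧ ⟶ ((DEquiv.singleB A).obj Y)⟦s⟧) :
    f = 0 := by
  let eX : (((DEquiv.singleB A).obj X)⟦r⟧).obj ≅ (DerivedCategory.singleFunctor A (-r)).obj X :=
    ((DerivedCategory.Bounded.ι (C := A)).commShiftIso r).app _ ≪≫ ((DerivedCategory.singleFunctors A).shiftIso r (-r) 0 (by omega)).app X
  let eY : (((DEquiv.singleB A).obj Y)⟦s⟧).obj ≅ (DerivedCategory.singleFunctor A (-s)).obj Y :=
    ((DerivedCategory.Bounded.ι (C := A)).commShiftIso s).app _ ≪≫ ((DerivedCategory.singleFunctors A).shiftIso s (-s) 0 (by omega)).app Y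
  apply (DerivedCategory.Bounded.ι (C := A)).map_injective
  rw [Functor.map_zero, ← cancel_epi eX.inv, ← cancel_mono eY.hom, comp_zero, zero_comp]
  exact (DerivedCategory.TStructure.t (C := A)).zero_of_isLE_of_isGE _ (-r) (-s) (by omega)
    (inferInstanceAs (((DerivedCategory.singleFunctor A (-r)).obj X).IsLE (-r)))
    (inferInstanceAs (((DerivedCategory.singleFunctor A (-s)).obj Y).IsGE (-s)))

theorem eq_zero_of_lt_zero {X Y : A} {s : ℤ} (h : s < 0) (f : (DEquiv.singleB A).obj X ⟶ ((DEquiv.singleB A).obj Y)⟦s⟧) :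
    f = 0 := by
  rw [← cancel_epi ((shiftFunctorZero (DerivedCategory.Bounded A) ℤ).app ((DEquiv.singleB A).obj X)).hom, comp_zero]
  exact eq_zero_of_lt h _

section Compare

variable {D : Type u'} [Category.{v'} D] [Preadditive D] [HasZeroObject D] [HasShift D ℤ]
  [∀ n : ℤ, (shiftFunctor D n).Additive] [Pretriangulated D] [IsTriangulated D]
  (F F' : (DerivedCategory.Bounded A) ⥤ D) [F.CommShift ℤ] [F.IsTriangulated]
  [F'.CommShift ℤ] [F'.IsTriangulated]
  (θ : DEquiv.singleB A ⋙ F' ≅ DEquiv.singleB A ⋙ F)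

/-- The comparison on shifted single objects. -/
noncomputable def α0 (M : A) (q : ℤ) : F'.obj (((DEquiv.singleB A).obj M)⟦q⟧) ≅ F.obj (((DEquiv.singleB A).obj M)⟦q⟧) :=
  (F'.commShiftIso q).app _ ≪≫ (shiftFunctor D q).mapIso (θ.app M) ≪≫ ((F.commShiftIso q).app _).symm

@[reassoc]
theorem α0_hom (M : A) (q : ℤ) : (α0 F F' θ M q).hom ≫ (F.commShiftIso q).hom.app ((DEquiv.singleB A).obj M) =
    (F'.commShiftIso q).hom.app ((DEquiv.singleB A).obj M) ≫ (θ.hom.app M)⟦q⟧' := by
  simp [α0]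

theorem α0_zero (M : A) : F'.map ((shiftFunctorZero (DerivedCategory.Bounded A) ℤ).inv.app ((DEquiv.singleB A).obj M)) ≫ (α0 F F' θ M 0).hom =
    θ.hom.app M ≫ F.map ((shiftFunctorZero (DerivedCategory.Bounded A) ℤ).inv.app ((DEquiv.singleB A).obj M)) := by
  rw [← cancel_mono ((F.commShiftIso (0 : ℤ)).hom.app ((DEquiv.singleB A).obj M)), Category.assoc, α0_hom,
    F'.commShiftIso_zero, F.commShiftIso_zero]
  simp [← Functor.map_comp_assoc]
  exact ((shiftFunctorZero D ℤ).inv.naturality (θ.hom.app M)).symm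

theorem α0_add (M : A) (q r s : ℤ) (h : q + r = s) :
    F'.map ((shiftFunctorAdd' (DerivedCategory.Bounded A) q r s h).hom.app ((DEquiv.singleB A).obj M)) ≫
        (F'.commShiftIso r).hom.app (((DEquiv.singleB A).obj M)⟦q⟧) ≫ ((α0 F F' θ M q).hom)⟦r⟧' =
      (α0 F F' θ M s).hom ≫ F.map ((shiftFunctorAdd' (DerivedCategory.Bounded A) q r s h).hom.app ((DEquiv.singleB A).obj M)) ≫
        (F.commShiftIso r).hom.app (((DEquiv.singleB A).obj M)⟦q⟧) := by
  rw [← cancel_mono (((F.commShiftIso q).hom.app ((DEquiv.singleB A).obj M))⟦r⟧'), Category.assoc, Category.assoc,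
    Category.assoc, Category.assoc, ← Functor.map_comp, α0_hom, Functor.map_comp]
  have e' := congrArg (fun e => Iso.hom e) (F'.commShiftIso_add' h)
  have e := congrArg (fun e => Iso.hom e) (F.commShiftIso_add' h)
  have e1' := congrArg (fun e => NatTrans.app e ((DEquiv.singleB A).obj M)) e'
  have e1 := congrArg (fun e => NatTrans.app e ((DEquiv.singleB A).obj M)) e
  simp only [Functor.CommShift.isoAdd'_hom_app] at e1 e1'
  rw [← cancel_mono ((shiftFunctorAdd' D q r s h).inv.app (F.obj ((DEquiv.singleB A).obj M)))]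
  simp only [Category.assoc]
  rw [← e1, α0_hom]
  rw [e1']
  simp only [Category.assoc]
  congr 3
  exact ((shiftFunctorAdd' D q r s h).inv.naturality (θ.hom.app M))

/-- Naturality on maps `X ⟶ Y[q]`. -/
def Nat (q : ℤ) : Prop := ∀ (X Y : A) (x : (DEquiv.singleB A).obj X ⟶ ((DEquiv.singleB A).obj Y)⟦q⟧),
  F'.map x ≫ (α0 F F' θ Y q).hom = θ.hom.app X ≫ F.map x

theorem nat_shift {q : ℤ} (hq : Nat F F' θ q) (X Y : A) (r s : ℤ) (h : q + r = s)
    (x : ((DEquiv.singleB A).obj X)⟦r⟧ ⟶ ((DEquiv.singleB A).obj Y)⟦s⟧) :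
    F'.map x ≫ (α0 F F' θ Y s).hom = (α0 F F' θ X r).hom ≫ F.map x := by
  obtain ⟨y, hy⟩ := (shiftFunctor (DerivedCategory.Bounded A) r).map_surjective
    (x ≫ (shiftFunctorAdd' (DerivedCategory.Bounded A) q r s h).hom.app ((DEquiv.singleB A).obj Y))
  have hx : x = y⟦r⟧' ≫ (shiftFunctorAdd' (DerivedCategory.Bounded A) q r s h).inv.app ((DEquiv.singleB A).obj Y) := by
    rw [hy, Category.assoc, Iso.hom_inv_id_app]
    exact (Category.comp_id _).symm
  have key : F'.map (y⟦r⟧') ≫ (F'.commShiftIso r).hom.app _ ≫ ((α0 F F' θ Y q).hom)⟦r⟧' =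
      (α0 F F' θ X r).hom ≫ F.map (y⟦r⟧') ≫ (F.commShiftIso r).hom.app _ := by
    have h1 := (F'.commShiftIso r).hom.naturality y
    have h2 := (F.commShiftIso r).hom.naturality y
    dsimp at h1 h2
    rw [reassoc_of% h1, h2, α0_hom_assoc, ← Functor.map_comp, hq X Y y, Functor.map_comp]
  rw [hy, Functor.map_comp, Functor.map_comp, Category.assoc, α0_add, Category.assoc] at key
  rw [← cancel_mono (F.map ((shiftFunctorAdd' (DerivedCategory.Bounded A) q r s h).hom.app ((DEquiv.singleB A).obj Y))),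
    ← cancel_mono ((F.commShiftIso r).hom.app (((DEquiv.singleB A).obj Y)⟦q⟧))]
  simp only [Category.assoc]
  exact key

theorem nat_zero : Nat F F' θ 0 := fun X Y x => by
  obtain ⟨f, hf⟩ : ∃ f, (DEquiv.singleB A).map f = x ≫ (shiftFunctorZero (DerivedCategory.Bounded A) ℤ).hom.app ((DEquiv.singleB A).obj Y) :=
    ⟨(DerivedCategory.singleFunctor A 0).preimage (x ≫ (shiftFunctorZero (DerivedCategory.Bounded A) ℤ).hom.app ((DEquiv.singleB A).obj Y)).hom,
      (DerivedCategory.Bounded.ι (C := A)).map_injective (by simp [DEquiv.singleB])⟩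
  have hx : x = (DEquiv.singleB A).map f ≫ (shiftFunctorZero (DerivedCategory.Bounded A) ℤ).inv.app ((DEquiv.singleB A).obj Y) := by
    rw [hf, Category.assoc, Iso.hom_inv_id_app]
    exact (Category.comp_id _).symm
  rw [hx, Functor.map_comp, Category.assoc, α0_zero, Functor.map_comp]
  exact (Category.assoc _ _ _).symm.trans ((congrArg (· ≫ _) (θ.hom.naturality f)).trans (Category.assoc _ _ _))

theorem nat_neg {q : ℤ} (hq : q < 0) : Nat F F' θ q := fun X Y x => by
  rw [eq_zero_of_lt_zero hq x, Functor.map_zero, zero_comp, Functor.map_zero, comp_zero]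

variable [F.Full] [F.Faithful]

/-- Naturality for the class of a short exact sequence. -/
theorem nat_δ {X' X : A} (p : X' ⟶ X) [Epi p] (δ : (DEquiv.singleB A).obj X ⟶ ((DEquiv.singleB A).obj (kernel p))⟦(1 : ℤ)⟧)
    (hT : Triangle.mk ((DEquiv.singleB A).map (kernel.ι p)) ((DEquiv.singleB A).map p) δ ∈ distTriang (DerivedCategory.Bounded A)) :
    F'.map δ ≫ (α0 F F' θ (kernel p) 1).hom = θ.hom.app X ≫ F.map δ := by
  obtain ⟨(c : F'.obj ((DEquiv.singleB A).obj X) ⟶ F.obj ((DEquiv.singleB A).obj X)),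
    (hc₁ : F'.map ((DEquiv.singleB A).map p) ≫ c = θ.hom.app X' ≫ F.map ((DEquiv.singleB A).map p)),
    (hc₂ : (F'.map δ ≫ (F'.commShiftIso (1 : ℤ)).hom.app _) ≫ (θ.hom.app (kernel p))⟦(1 : ℤ)⟧' =
      c ≫ F.map δ ≫ (F.commShiftIso (1 : ℤ)).hom.app _)⟩ :=
    complete_distinguished_triangle_morphism _ _ (F'.map_distinguished _ hT) (F.map_distinguished _ hT)
      (θ.hom.app (kernel p)) (θ.hom.app X') (θ.hom.naturality (kernel.ι p))
  let θX : F'.obj ((DEquiv.singleB A).obj X) ⟶ F.obj ((DEquiv.singleB A).obj X) := θ.hom.app X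
  have hce : c = θX := by
    rw [← sub_eq_zero]
    have h0 : F'.map ((DEquiv.singleB A).map p) ≫ (c - θX) = 0 := by
      rw [Preadditive.comp_sub, hc₁, sub_eq_zero]
      exact (θ.hom.naturality p).symm
    obtain ⟨(z : F'.obj (((DEquiv.singleB A).obj (kernel p))⟦(1 : ℤ)⟧) ⟶ F.obj ((DEquiv.singleB A).obj X)), hz⟩ :=
      Triangle.yoneda_exact₂ _ (F'.map_distinguished _ (rot_of_distTriang _ hT)) (c - θX) h0
    obtain ⟨w, hw⟩ := F.map_surjective ((α0 F F' θ (kernel p) 1).inv ≫ z)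
    have hw0 : w = 0 := by
      rw [← cancel_mono ((shiftFunctorZero (DerivedCategory.Bounded A) ℤ).app ((DEquiv.singleB A).obj X)).inv, zero_comp]
      exact eq_zero_of_lt (by omega) _
    have hz0 : z = 0 := by
      rw [← cancel_epi (α0 F F' θ (kernel p) 1).inv, ← hw, hw0, Functor.map_zero, comp_zero]
    rw [hz, hz0]
    exact comp_zero
  subst hce
  rw [← cancel_mono ((F.commShiftIso (1 : ℤ)).hom.app ((DEquiv.singleB A).obj (kernel p))), Category.assoc, α0_hom,
    Category.assoc]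
  exact (Category.assoc _ _ _).symm.trans hc₂

theorem nat_all (q : ℤ) : Nat F F' θ q := by
  rcases lt_or_ge q 0 with hq | hq
  · exact nat_neg F F' θ hq
  obtain ⟨m, rfl⟩ : ∃ m : ℕ, q = m := ⟨q.toNat, by omega⟩
  induction m with
  | zero => exact nat_zero F F' θ
  | succ m ih =>
    intro X Y x
    obtain ⟨X', p, hp, hpx⟩ := Sibling.exists_epi ((m + 1 : ℕ) : ℤ) (by omega) x
    obtain ⟨δ, hT⟩ := exists_sesTriangle p
    obtain ⟨(y : ((DEquiv.singleB A).obj (kernel p))⟦(1 : ℤ)⟧ ⟶ _), (hy : x = δ ≫ y)⟩ := Triangle.yoneda_exact₃ _ hT x hpx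
    rw [hy, Functor.map_comp, Category.assoc, nat_shift F F' θ (ih (by omega)) (kernel p) Y 1 _ (by omega) y,
      ← Category.assoc, nat_δ F F' θ p δ hT, Category.assoc, ← Functor.map_comp]

/-- Naturality between shifted single objects. -/
theorem nat_single (X Y : A) (r s : ℤ) (x : ((DEquiv.singleB A).obj X)⟦r⟧ ⟶ ((DEquiv.singleB A).obj Y)⟦s⟧) :
    F'.map x ≫ (α0 F F' θ Y s).hom = (α0 F F' θ X r).hom ≫ F.map x :=
  nat_shift F F' θ (nat_all F F' θ (s - r)) X Y r s (by omega) x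

end Compare

end Groth.Agent.Lib.TriFF.SiblingBase
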