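import Groth.Agent.Lib.TriFF.SiblingBase

/-!
# Siblings of a fully faithful functor are isomorphic to it

With enough negative objects, the comparison isomorphisms on objects of amplitude `n + 1` are
determined by those of amplitude `n`.
-/

set_option autoImplicit false
set_option linter.style.haveILetI false
set_option linter.unusedSectionVars false

universe w v v' u u'

open CategoryTheory Limits Pretriangulated

namespace Groth.Agent.Lib.TriFF.SiblingIso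

open Groth.Agent.Lib.TriFF.SiblingBase

variable {A : Type u} [Category.{v} A] [Abelian A] [HasDerivedCategory.{w} A]
  {D : Type u'} [Category.{v'} D] [Preadditive D] [HasZeroObject D] [HasShift D ℤ]
  [∀ n : ℤ, (shiftFunctor D n).Additive] [Pretriangulated D] [IsTriangulated D]
  (F F' : DerivedCategory.Bounded A ⥤ D) [F.CommShift ℤ] [F.IsTriangulated]
  [F'.CommShift ℤ] [F'.IsTriangulated] [F.Full] [F.Faithful]

/-- Compatible isomorphisms on the objects of amplitude at most `n`. -/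
structure Lvl (n : ℕ) where
  /-- The isomorphism. -/
  α : ∀ K : DerivedCategory.Bounded A, Amp n K → (F'.obj K ≅ F.obj K)
  nat : ∀ {K L : DerivedCategory.Bounded A} (hK : Amp n K) (hL : Amp n L) (f : K ⟶ L),
    F'.map f ≫ (α L hL).hom = (α K hK).hom ≫ F.map f

theorem nonempty_lvl_zero (θ : DEquiv.singleB A ⋙ F' ≅ DEquiv.singleB A ⋙ F) :
    Nonempty (Lvl F F' 0) := by
  have h : ∀ K : DerivedCategory.Bounded A, Amp 0 K →
      ∃ (M : A) (q : ℤ), Nonempty (K ≅ ((DEquiv.singleB A).obj M)⟦q⟧) := fun K hK => by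
    obtain ⟨a, ha, hb⟩ := hK
    rw [Nat.cast_zero, add_zero] at hb
    haveI := ha
    haveI := hb
    obtain ⟨M, ⟨e⟩⟩ := DerivedCategory.exists_iso_singleFunctor_obj_of_isGE_of_isLE K.obj a
    exact ⟨M, -a, ⟨ObjectProperty.isoMk _ (e ≪≫ (sglObj M a).symm)⟩⟩
  choose M q e using h
  refine ⟨⟨fun K hK => F'.mapIso (e K hK).some ≪≫ α0 F F' θ (M K hK) (q K hK) ≪≫
    F.mapIso (e K hK).some.symm, fun {K L} hK hL f => ?_⟩⟩
  dsimp only [Iso.trans_hom, Functor.mapIso_hom, Iso.symm_hom]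
  generalize (e K hK).some = eK
  generalize (e L hL).some = eL
  obtain ⟨x, rfl⟩ : ∃ x, f = eK.hom ≫ x ≫ eL.inv := ⟨eK.inv ≫ f ≫ eL.hom, by simp⟩
  simp only [Functor.map_comp, Category.assoc]
  rw [← F'.map_comp_assoc eL.inv, Iso.inv_hom_id, CategoryTheory.Functor.map_id, Category.id_comp,
    reassoc_of% (nat_single F F' θ _ _ _ _ x), ← F.map_comp_assoc eK.inv, Iso.inv_hom_id,
    CategoryTheory.Functor.map_id, Category.id_comp]

theorem amp_sgl_shift (n : ℕ) (N : A) (b : ℤ) : Amp n ((sgl N b)⟦(1 : ℤ)⟧) := by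
  let t : Triangulated.TStructure (DerivedCategory A) := DerivedCategory.TStructure.t
  let e : ((sgl N b)⟦(1 : ℤ)⟧).obj ≅ (sgl N b).obj⟦(1 : ℤ)⟧ :=
    ((DerivedCategory.Bounded.ι (C := A)).commShiftIso (1 : ℤ)).app _
  haveI : t.IsGE (sgl N b).obj b := isGE_sgl N b
  haveI : t.IsLE (sgl N b).obj b := isLE_sgl N b
  haveI : t.IsGE ((sgl N b).obj⟦(1 : ℤ)⟧) (b - 1) := t.isGE_shift (sgl N b).obj b 1 (b - 1) (by omega)
  haveI : t.IsLE ((sgl N b).obj⟦(1 : ℤ)⟧) (b - 1) := t.isLE_shift (sgl N b).obj b 1 (b - 1) (by omega)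
  exact amp_of (t.isGE_of_iso e.symm (b - 1)) (t.isLE_of_iso e.symm (b - 1)) (by omega)

variable {F F'}
variable (hneg : ∀ X : A, ∃ (N : A) (p : N ⟶ X), Epi p ∧ ∀ f : X ⟶ N, f = 0)
  (h2 : ∀ K : DerivedCategory.Bounded A, Nonempty (F'.obj K ≅ F.obj K))

include h2 in
theorem hom_eq_zero (K : DerivedCategory.Bounded A) (b c : ℤ) (hb : K.obj.IsLE b) (hbc : b ≤ c) (N : A)
    (hN : ∀ φ : (DerivedCategory.homologyFunctor A c).obj K.obj ⟶ N, φ = 0)
    (w : F'.obj K ⟶ F.obj (sgl N c)) : w = 0 := by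
  obtain ⟨e⟩ := h2 K
  obtain ⟨v, hv⟩ := F.map_surjective (e.inv ≫ w)
  haveI : (DerivedCategory.TStructure.t (C := A)).IsLE K.obj b := hb
  haveI : K.obj.IsLE c := (DerivedCategory.TStructure.t (C := A)).isLE_of_le K.obj b c hbc
  have hv0 : v = 0 := by
    apply (DerivedCategory.Bounded.ι (C := A)).map_injective
    rw [Functor.map_zero, ← cancel_mono (sglObj N c).hom, zero_comp]
    exact Negative.eq_zero_to_single K.obj c N hN _
  rw [← cancel_epi e.inv, ← hv, hv0, Functor.map_zero, comp_zero]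

include h2 in
/-- Separation by the map to the cone of a negative single object. -/
theorem separated {K K₂ C : DerivedCategory.Bounded A} {b c : ℤ} (hb : K.obj.IsLE b) (hbc : b ≤ c)
    {N : A} (hN : ∀ φ : (DerivedCategory.homologyFunctor A c).obj K.obj ⟶ N, φ = 0)
    {g : sgl N c ⟶ K₂} {m : K₂ ⟶ C} {δ : C ⟶ (sgl N c)⟦(1 : ℤ)⟧}
    (hT : Triangle.mk g m δ ∈ distTriang (DerivedCategory.Bounded A))
    (d : F'.obj K ⟶ F.obj K₂) (hd : d ≫ F.map m = 0) : d = 0 := by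
  obtain ⟨(w : F'.obj K ⟶ F.obj (sgl N c)), (hw : d = w ≫ F.map g)⟩ :=
    Triangle.coyoneda_exact₂ _ (F.map_distinguished _ hT) d hd
  rw [hw, hom_eq_zero h2 K b c hb hbc N hN w, zero_comp]

variable {n : ℕ} (L : Lvl F F' n)

theorem exists_fill {K C : DerivedCategory.Bounded A} {b : ℤ} {N : A} {g : sgl N b ⟶ K} {m : K ⟶ C}
    {δ : C ⟶ (sgl N b)⟦(1 : ℤ)⟧}
    (hT : Triangle.mk g m δ ∈ distTriang (DerivedCategory.Bounded A)) (hC : Amp n C) :
    ∃ h : F'.obj K ≅ F.obj K, F'.map m ≫ (L.α C hC).hom = h.hom ≫ F.map m := by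
  let γ : (F'.obj (sgl N b))⟦(1 : ℤ)⟧ ≅ (F.obj (sgl N b))⟦(1 : ℤ)⟧ :=
    ((F'.commShiftIso (1 : ℤ)).app _).symm ≪≫ L.α _ (amp_sgl_shift n N b) ≪≫ (F.commShiftIso (1 : ℤ)).app _
  let β := (shiftFunctor D (1 : ℤ)).preimageIso γ
  have hsq : (F'.map δ ≫ (F'.commShiftIso (1 : ℤ)).hom.app (sgl N b)) ≫ β.hom⟦(1 : ℤ)⟧' =
      (L.α C hC).hom ≫ F.map δ ≫ (F.commShiftIso (1 : ℤ)).hom.app (sgl N b) := by
    rw [show β.hom⟦(1 : ℤ)⟧' = γ.hom from (shiftFunctor D (1 : ℤ)).map_preimage γ.hom]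
    simp only [γ, Iso.trans_hom, Iso.symm_hom, Iso.app_inv, Iso.app_hom, Category.assoc,
      Iso.hom_inv_id_app_assoc]
    rw [← Category.assoc, L.nat hC (amp_sgl_shift n N b) δ, Category.assoc]
  have hT₁ := F'.map_distinguished _ hT
  have hT₂ := F.map_distinguished _ hT
  obtain ⟨(h : F'.obj K ⟶ F.obj K), hh₁, (hh₂ : F'.map m ≫ (L.α C hC).hom = h ≫ F.map m)⟩ :=
    complete_distinguished_triangle_morphism₂ _ _ hT₁ hT₂ β.hom (L.α C hC).hom hsq
  haveI : IsIso h := isIso₂_of_isIso₁₃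
    (Triangle.homMk (F'.mapTriangle.obj (Triangle.mk g m δ)) (F.mapTriangle.obj (Triangle.mk g m δ))
      β.hom h (L.α C hC).hom hh₁ hh₂ hsq) hT₁ hT₂ (inferInstanceAs (IsIso β.hom))
      (inferInstanceAs (IsIso (L.α C hC).hom))
  exact ⟨asIso h, hh₂⟩

/-- Compatibility with all maps to objects of amplitude `n`. -/
def Comp (K : DerivedCategory.Bounded A) (h : F'.obj K ⟶ F.obj K) : Prop :=
  ∀ (K' : DerivedCategory.Bounded A) (hK' : Amp n K') (f : K ⟶ K'),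
    F'.map f ≫ (L.α K' hK').hom = h ≫ F.map f

include hneg h2 in
theorem exists_comp (K : DerivedCategory.Bounded A) (hK : Amp (n + 1) K) :
    ∃ h : F'.obj K ≅ F.obj K, Comp L K h.hom := by
  obtain ⟨a, ha, hb'⟩ := hK
  let b := a + ((n + 1 : ℕ) : ℤ)
  have hbdef : b = a + (n : ℤ) + 1 := by simp only [b]; push_cast; ring
  have hb : K.obj.IsLE b := hb'
  obtain ⟨Z, hZ⟩ := HasZeroObject.zero (C := A)
  obtain ⟨N, g, C, m, δ, hT, hCb, hCa, hN, -, -, -⟩ := exists_good hneg K a b ha hb Z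
    (isLE_sgl Z (b - 1)) (isLE_sgl Z (b - 1)) (0 : K ⟶ sgl Z (b - 1)) 0
  have hC : Amp n C := amp_of hCa hCb (by omega)
  obtain ⟨h, hh⟩ := exists_fill L hT hC
  refine ⟨h, ?_⟩
  suffices key : ∀ (j : ℕ) (K' : DerivedCategory.Bounded A) (a' c : ℤ), K'.obj.IsGE a' → K'.obj.IsLE c →
      c ≤ a' + n → c ≤ b - 1 + j → ∀ (hK' : Amp n K') (f : K ⟶ K'),
        F'.map f ≫ (L.α K' hK').hom = h.hom ≫ F.map f by
    intro K' hK' f
    obtain ⟨a', ha', hc⟩ := hK'
    exact key (a' + n - (b - 1)).toNat K' a' (a' + n) ha' hc le_rfl (by omega) _ f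
  intro j
  induction j with
  | zero =>
    intro K' a' c ha' hc hlen hcb hK' f
    have hK'b : K'.obj.IsLE (b - 1) :=
      haveI : (DerivedCategory.TStructure.t (C := A)).IsLE K'.obj c := hc
      (DerivedCategory.TStructure.t (C := A)).isLE_of_le K'.obj c (b - 1) (by omega)
    obtain ⟨N₁, g₁, C₁, m₁, δ₁, hT₁, hC₁b, hC₁a, -, -, hg₁m, hg₁f⟩ :=
      exists_good hneg K a b ha hb Z hCb hK'b m f
    have hC₁ : Amp n C₁ := amp_of hC₁a hC₁b (by omega)
    obtain ⟨h₁, hh₁⟩ := exists_fill L hT₁ hC₁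
    obtain ⟨(v : C₁ ⟶ C), (hv : m = m₁ ≫ v)⟩ := Triangle.yoneda_exact₂ _ hT₁ m hg₁m
    obtain ⟨(w : C₁ ⟶ K'), (hw : f = m₁ ≫ w)⟩ := Triangle.yoneda_exact₂ _ hT₁ f hg₁f
    have e : h₁.hom = h.hom := by
      rw [← sub_eq_zero]
      refine separated h2 hb le_rfl hN hT _ ?_
      rw [Preadditive.sub_comp, sub_eq_zero, ← hh, hv, F.map_comp, F'.map_comp, ← reassoc_of% hh₁,
        Category.assoc, L.nat hC₁ hC v]
    rw [hw, F'.map_comp, Category.assoc, L.nat hC₁ hK' w, reassoc_of% hh₁, e, F.map_comp]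
  | succ j ih =>
    intro K' a' c ha' hc hlen hcb hK' f
    by_cases hj : c ≤ b - 1 + j
    · exact ih K' a' c ha' hc hlen hj hK' f
    obtain ⟨N₂, g₂, C₂, m₂, δ₂, hT₂, hC₂b, hC₂a, -, hN₂, -, -⟩ := exists_good hneg K' a' c ha' hc
      ((DerivedCategory.homologyFunctor A c).obj K.obj) (isLE_sgl Z (c - 1)) (isLE_sgl Z (c - 1))
      (0 : K' ⟶ sgl Z (c - 1)) 0
    have hC₂ : Amp n C₂ := amp_of hC₂a hC₂b (by omega)
    rw [← sub_eq_zero]
    refine separated h2 hb (by omega) hN₂ hT₂ _ ?_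
    rw [Preadditive.sub_comp, Category.assoc, ← L.nat hK' hC₂ m₂, ← F'.map_comp_assoc,
      Category.assoc, ← F.map_comp, sub_eq_zero]
    exact ih C₂ (min a' (c - 1)) (c - 1) hC₂a hC₂b (by omega) (by omega) hC₂ _

include hneg h2 in
theorem exists_succ : ∃ L' : Lvl F F' (n + 1), ∀ (K : DerivedCategory.Bounded A) (hK : Amp n K),
    (L'.α K hK.succ).hom = (L.α K hK).hom := by
  choose α hα using exists_comp hneg h2 L
  have hext : ∀ (K : DerivedCategory.Bounded A) (hK : Amp n K) (hK' : Amp (n + 1) K),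
      (α K hK').hom = (L.α K hK).hom := fun K hK hK' => by
    have := hα K hK' K hK (𝟙 K)
    rw [CategoryTheory.Functor.map_id, CategoryTheory.Functor.map_id, Category.id_comp,
      Category.comp_id] at this
    exact this.symm
  refine ⟨⟨α, ?_⟩, fun K hK => hext K hK hK.succ⟩
  suffices key : ∀ (j : ℕ) (K K₂ : DerivedCategory.Bounded A) (a b a₂ c : ℤ), K.obj.IsGE a → K.obj.IsLE b →
      b ≤ a + (n + 1 : ℕ) → K₂.obj.IsGE a₂ → K₂.obj.IsLE c → c ≤ a₂ + (n + 1 : ℕ) → b ≤ c + j →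
        ∀ (hK : Amp (n + 1) K) (hK₂ : Amp (n + 1) K₂) (f : K ⟶ K₂),
          F'.map f ≫ (α K₂ hK₂).hom = (α K hK).hom ≫ F.map f by
    intro K K₂ hK hK₂ f
    obtain ⟨a, ha, hb⟩ := hK
    obtain ⟨a₂, ha₂, hc⟩ := hK₂
    exact key (a + (n + 1 : ℕ) - (a₂ + (n + 1 : ℕ))).toNat K K₂ a _ a₂ _ ha hb le_rfl ha₂ hc le_rfl
      (by omega) _ _ f
  obtain ⟨Z, hZ⟩ := HasZeroObject.zero (C := A)
  intro j
  induction j with
  | zero =>
    intro K K₂ a b a₂ c ha hb hlen ha₂ hc hlen₂ hbc hK hK₂ f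
    obtain ⟨N₂, g₂, C₂, m₂, δ₂, hT₂, hC₂b, hC₂a, -, hN₂, -, -⟩ := exists_good hneg K₂ a₂ c ha₂ hc
      ((DerivedCategory.homologyFunctor A c).obj K.obj) (isLE_sgl Z (c - 1)) (isLE_sgl Z (c - 1))
      (0 : K₂ ⟶ sgl Z (c - 1)) 0
    have hC₂ : Amp n C₂ := amp_of hC₂a hC₂b (by omega)
    rw [← sub_eq_zero]
    refine separated h2 hb (by omega) hN₂ hT₂ _ ?_
    rw [Preadditive.sub_comp, Category.assoc, ← hα K₂ hK₂ C₂ hC₂ m₂, ← F'.map_comp_assoc,
      Category.assoc, ← F.map_comp, sub_eq_zero]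
    exact hα K hK C₂ hC₂ _
  | succ j ih =>
    intro K K₂ a b a₂ c ha hb hlen ha₂ hc hlen₂ hbc hK hK₂ f
    by_cases hj : b ≤ c + j
    · exact ih K K₂ a b a₂ c ha hb hlen ha₂ hc hlen₂ hj hK hK₂ f
    have hK₂b : K₂.obj.IsLE (b - 1) :=
      haveI : (DerivedCategory.TStructure.t (C := A)).IsLE K₂.obj c := hc
      (DerivedCategory.TStructure.t (C := A)).isLE_of_le K₂.obj c (b - 1) (by omega)
    obtain ⟨N₁, g₁, C₁, m₁, δ₁, hT₁, hC₁b, hC₁a, -, -, hg₁f, -⟩ :=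
      exists_good hneg K a b ha hb Z hK₂b hK₂b f f
    have hC₁ : Amp n C₁ := amp_of hC₁a hC₁b (by omega)
    obtain ⟨(f' : C₁ ⟶ K₂), (hf' : f = m₁ ≫ f')⟩ := Triangle.yoneda_exact₂ _ hT₁ f hg₁f
    have h1 := ih C₁ K₂ (min a (b - 1)) (b - 1) a₂ c hC₁a hC₁b (by omega) ha₂ hc hlen₂ (by omega)
      hC₁.succ hK₂ f'
    rw [hext C₁ hC₁ hC₁.succ] at h1
    rw [hf', F'.map_comp, Category.assoc, h1, ← Category.assoc, hα K hK C₁ hC₁ m₁, Category.assoc,
      F.map_comp]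

include hneg h2 in
/-- A sibling of a fully faithful functor is isomorphic to it. -/
theorem nonempty_iso (θ : DEquiv.singleB A ⋙ F' ≅ DEquiv.singleB A ⋙ F) : Nonempty (F' ≅ F) := by
  obtain ⟨L₀⟩ := nonempty_lvl_zero F F' θ
  choose next hnext using fun (n : ℕ) (L : Lvl F F' n) => exists_succ hneg h2 L
  let Ls : ∀ n, Lvl F F' n := fun n => Nat.rec L₀ next n
  have hamp : ∀ (m k : ℕ) (K : DerivedCategory.Bounded A), Amp m K → Amp (m + k) K := fun m k K h => by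
    induction k with
    | zero => exact h
    | succ k ih => exact ih.succ
  have hsame : ∀ (m k : ℕ) (K : DerivedCategory.Bounded A) (h : Amp m K) (h' : Amp (m + k) K),
      ((Ls (m + k)).α K h').hom = ((Ls m).α K h).hom := fun m k K h h' => by
    induction k with
    | zero => rfl
    | succ k ih => exact (hnext (m + k) (Ls (m + k)) K (hamp m k K h)).trans (ih _)
  have hall : ∀ K : DerivedCategory.Bounded A, ∃ n, Amp n K := fun K => by
    obtain ⟨⟨a, ha⟩, ⟨b, hb⟩⟩ := K.property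
    exact ⟨(b - a).toNat, amp_of ha hb (by omega)⟩
  choose ν hν using hall
  refine ⟨NatIso.ofComponents (fun K => (Ls (ν K)).α K (hν K)) fun {K L} f => ?_⟩
  have hK : Amp (ν K + ν L) K := hamp _ _ K (hν K)
  have hL : Amp (ν K + ν L) L := by
    rw [add_comm]
    exact hamp _ _ L (hν L)
  have hL' : ((Ls (ν K + ν L)).α L hL).hom = ((Ls (ν L)).α L (hν L)).hom := by
    have : ∀ p (hp : Amp p L), p = ν L + ν K →
        ((Ls p).α L hp).hom = ((Ls (ν L)).α L (hν L)).hom := by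
      rintro p hp rfl
      exact hsame _ _ L _ _
    exact this _ hL (add_comm _ _)
  rw [← hsame _ _ K (hν K) hK, ← hL']
  exact (Ls (ν K + ν L)).nat hK hL f

end Groth.Agent.Lib.TriFF.SiblingIso
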