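import Groth.Agent.Lib.TriFF.SiblingBase

/-!
# Exact functors agreeing on `A` agree on objects when negative Homs vanish
-/

set_option autoImplicit false
set_option linter.style.haveILetI false
set_option linter.unusedSectionVars false

universe w v v' u u'

open CategoryTheory Limits Pretriangulated

namespace Groth.Agent.Lib.TriFF.SiblingObj

open Groth.Agent.Lib.TriFF.SiblingBase

variable {A : Type u} [Category.{v} A] [Abelian A] [HasDerivedCategory.{w} A]
  {D : Type u'} [Category.{v'} D] [Preadditive D] [HasZeroObject D] [HasShift D ℤ]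
  [∀ n : ℤ, (shiftFunctor D n).Additive] [Pretriangulated D] [IsTriangulated D]
  (F F' : DerivedCategory.Bounded A ⥤ D) [F.CommShift ℤ] [F.IsTriangulated]
  [F'.CommShift ℤ] [F'.IsTriangulated]
  (θ : DEquiv.singleB A ⋙ F' ≅ DEquiv.singleB A ⋙ F)
  (hv : ∀ (X Y : A) (q : ℤ), q < 0 →
    ∀ f : F.obj ((DEquiv.singleB A).obj X) ⟶ (F.obj ((DEquiv.singleB A).obj Y))⟦q⟧, f = 0)

include θ hv in
theorem vanish_single (N M : A) (b c : ℤ) (h : b < c) (f : F'.obj (sgl N b) ⟶ F.obj (sgl M c)) :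
    f = 0 := by
  let e₁ : F'.obj (sgl N b) ≅ (F.obj ((DEquiv.singleB A).obj N))⟦-b⟧ :=
    α0 F F' θ N (-b) ≪≫ (F.commShiftIso (-b)).app _
  let e₂ : F.obj (sgl M c) ≅ ((F.obj ((DEquiv.singleB A).obj M))⟦b - c⟧)⟦-b⟧ :=
    (F.commShiftIso (-c)).app _ ≪≫ (shiftFunctorAdd' D (b - c) (-b) (-c) (by omega)).app _
  obtain ⟨g, hg⟩ := (shiftFunctor D (-b)).map_surjective (e₁.inv ≫ f ≫ e₂.hom)
  rw [← cancel_epi e₁.inv, ← cancel_mono e₂.hom, Category.assoc, ← hg,
    hv N M (b - c) (by omega) g, Functor.map_zero, comp_zero, zero_comp]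

include θ hv in
theorem vanish (M : A) (c : ℤ) (n : ℕ) : ∀ (K : DerivedCategory.Bounded A) (a b : ℤ), K.obj.IsGE a →
    K.obj.IsLE b → b ≤ a + n → b < c → ∀ f : F'.obj K ⟶ F.obj (sgl M c), f = 0 := by
  induction n with
  | zero =>
    intro K a b ha hb hab hbc f
    haveI := ha
    haveI : K.obj.IsLE a :=
      haveI : (DerivedCategory.TStructure.t (C := A)).IsLE K.obj b := hb
      (DerivedCategory.TStructure.t (C := A)).isLE_of_le K.obj b a (by omega)
    obtain ⟨N, ⟨e⟩⟩ := DerivedCategory.exists_iso_singleFunctor_obj_of_isGE_of_isLE K.obj a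
    by_cases hac : a < c
    · let e' : K ≅ sgl N a := ObjectProperty.isoMk _ (e ≪≫ (sglObj N a).symm)
      rw [← cancel_epi (F'.map e'.inv), comp_zero]
      exact vanish_single F F' θ hv N M a c hac _
    · have hz : IsZero K.obj := (DerivedCategory.TStructure.t (C := A)).isZero K.obj b a (by omega)
      have hz' : IsZero K := by
        rw [IsZero.iff_id_eq_zero]
        exact (DerivedCategory.Bounded.ι (C := A)).map_injective (hz.eq_of_src _ _)
      exact (F'.map_isZero hz').eq_of_src _ _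
  | succ n ih =>
    intro K a b ha hb hab hbc f
    haveI := hb
    obtain ⟨N, g₀, hg₀⟩ := Negative.exists_top K.obj b
    obtain ⟨C, m, δ, hT, hCb, hCa⟩ := exists_cone K a b ha hb g₀ hg₀
    have h0 : F'.map (ObjectProperty.homMk ((sglObj N b).hom ≫ g₀) : sgl N b ⟶ K) ≫ f = 0 :=
      vanish_single F F' θ hv N M b c hbc _
    obtain ⟨(f' : F'.obj C ⟶ F.obj (sgl M c)), (hf' : f = F'.map m ≫ f')⟩ :=
      Triangle.yoneda_exact₂ _ (F'.map_distinguished _ hT) f h0
    rw [hf', ih C _ _ hCa hCb (by omega) (by omega) f', comp_zero]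

include θ hv in
theorem exists_iso (n : ℕ) : ∀ (K : DerivedCategory.Bounded A) (a b : ℤ), K.obj.IsGE a →
    K.obj.IsLE b → b ≤ a + n →
    ∃ (h : F'.obj K ≅ F.obj K) (N : A) (g₀ : (DerivedCategory.singleFunctor A b).obj N ⟶ K.obj),
      Epi ((DerivedCategory.homologyFunctor A b).map g₀) ∧
        F'.map (ObjectProperty.homMk ((sglObj N b).hom ≫ g₀) : sgl N b ⟶ K) ≫ h.hom =
          (α0 F F' θ N (-b)).hom ≫
            F.map (ObjectProperty.homMk ((sglObj N b).hom ≫ g₀) : sgl N b ⟶ K) := by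
  induction n with
  | zero =>
    intro K a b ha hb hab
    haveI := hb
    haveI : K.obj.IsGE b :=
      haveI : (DerivedCategory.TStructure.t (C := A)).IsGE K.obj a := ha
      (DerivedCategory.TStructure.t (C := A)).isGE_of_ge K.obj b a (by omega)
    obtain ⟨N, ⟨e⟩⟩ := DerivedCategory.exists_iso_singleFunctor_obj_of_isGE_of_isLE K.obj b
    let e' : K ≅ sgl N b := ObjectProperty.isoMk _ (e ≪≫ (sglObj N b).symm)
    refine ⟨F'.mapIso e' ≪≫ α0 F F' θ N (-b) ≪≫ F.mapIso e'.symm, N, e.inv, inferInstance, ?_⟩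
    have hg : (ObjectProperty.homMk ((sglObj N b).hom ≫ e.inv) : sgl N b ⟶ K) = e'.inv :=
      (DerivedCategory.Bounded.ι (C := A)).map_injective rfl
    rw [hg]
    simp [← Functor.map_comp_assoc]
  | succ n ih =>
    intro K a b ha hb hab
    haveI := hb
    obtain ⟨N, g₀, hg₀⟩ := Negative.exists_top K.obj b
    obtain ⟨C, m, δ, hT, hCb, hCa⟩ := exists_cone K a b ha hb g₀ hg₀
    obtain ⟨hC, N', g₀', hg₀', hg'⟩ := ih C _ _ hCa hCb (by omega)
    obtain ⟨C', m', δ', hT', hC'b, hC'a⟩ := exists_cone C _ _ hCa hCb g₀' hg₀'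
    let g' : sgl N' (b - 1) ⟶ C := ObjectProperty.homMk ((sglObj N' (b - 1)).hom ≫ g₀')
    let a₂ := (shiftFunctorAdd' (DerivedCategory.Bounded A) (-b) 1 (-(b - 1)) (by omega)).app
      ((DEquiv.singleB A).obj N)
    have hsq : (F'.map δ ≫ (F'.commShiftIso (1 : ℤ)).hom.app (sgl N b)) ≫
        ((α0 F F' θ N (-b)).hom)⟦(1 : ℤ)⟧' =
          hC.hom ≫ F.map δ ≫ (F.commShiftIso (1 : ℤ)).hom.app (sgl N b) := by
      let l : F'.obj C ⟶ (F.obj (sgl N b))⟦(1 : ℤ)⟧ :=
        (F'.map δ ≫ (F'.commShiftIso (1 : ℤ)).hom.app (sgl N b)) ≫ ((α0 F F' θ N (-b)).hom)⟦(1 : ℤ)⟧'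
      let r : F'.obj C ⟶ (F.obj (sgl N b))⟦(1 : ℤ)⟧ :=
        hC.hom ≫ F.map δ ≫ (F.commShiftIso (1 : ℤ)).hom.app (sgl N b)
      let d : F'.obj C ⟶ (F.obj (sgl N b))⟦(1 : ℤ)⟧ := l - r
      have hd : F'.map g' ≫ d = 0 := by
        simp only [d, l, r, Preadditive.comp_sub, sub_eq_zero]
        obtain ⟨x, hx⟩ : ∃ x : sgl N' (b - 1) ⟶ sgl N (b - 1), g' ≫ δ = x ≫ a₂.hom :=
          ⟨g' ≫ δ ≫ a₂.inv, by simp⟩
        have hg'' : F'.map g' ≫ hC.hom = (α0 F F' θ N' (-(b - 1))).hom ≫ F.map g' := hg'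
        rw [← Category.assoc (F'.map g'), ← Category.assoc (F'.map g'), ← F'.map_comp,
          reassoc_of% hg'', ← F.map_comp_assoc, hx, F'.map_comp, F.map_comp]
        simp only [Category.assoc]
        refine (congrArg (fun t => F'.map x ≫ t) (α0_add F F' θ N (-b) 1 (-(b - 1)) (by omega))).trans ?_
        exact (Category.assoc _ _ _).symm.trans
          ((congrArg (fun t => t ≫ _) (nat_shift F F' θ (nat_zero F F' θ) N' N _ _ (by omega) x)).trans
            (Category.assoc _ _ _))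
      obtain ⟨(z : F'.obj C' ⟶ (F.obj (sgl N b))⟦(1 : ℤ)⟧), (hz : d = F'.map m' ≫ z)⟩ :=
        Triangle.yoneda_exact₂ _ (F'.map_distinguished _ hT') d hd
      let e := (F.commShiftIso (1 : ℤ)).app (sgl N b)
      let e₂ : F.obj (sgl N (b - 1)) ≅ (F.obj (sgl N b))⟦(1 : ℤ)⟧ := F.mapIso a₂ ≪≫ e
      have hz0 : z = 0 := by
        rw [← cancel_mono e₂.inv, zero_comp]
        exact vanish F F' θ hv N (b - 1) _ C' _ _ hC'a hC'b
          (show b - 1 - 1 ≤ min (min a (b - 1)) (b - 1 - 1) + (n + 1 : ℕ) by omega) (by omega) _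
      change l = r
      exact sub_eq_zero.1 (show d = 0 by rw [hz, hz0, comp_zero])
    have hT₁ := F'.map_distinguished _ hT
    have hT₂ := F.map_distinguished _ hT
    let g : sgl N b ⟶ K := ObjectProperty.homMk ((sglObj N b).hom ≫ g₀)
    obtain ⟨(h : F'.obj K ⟶ F.obj K), (hh₁ : F'.map g ≫ h = (α0 F F' θ N (-b)).hom ≫ F.map g),
      (hh₂ : F'.map m ≫ hC.hom = h ≫ F.map m)⟩ :=
      complete_distinguished_triangle_morphism₂ _ _ hT₁ hT₂ (α0 F F' θ N (-b)).hom hC.hom hsq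
    haveI : IsIso h := isIso₂_of_isIso₁₃
      (Triangle.homMk (F'.mapTriangle.obj (Triangle.mk g m δ)) (F.mapTriangle.obj (Triangle.mk g m δ))
        (α0 F F' θ N (-b)).hom h hC.hom hh₁ hh₂ hsq) hT₁ hT₂
      (inferInstanceAs (IsIso (α0 F F' θ N (-b)).hom)) (inferInstanceAs (IsIso hC.hom))
    exact ⟨asIso h, N, g₀, hg₀, hh₁⟩

include θ hv in
/-- `F K ≅ F' K` for every bounded object. -/
theorem nonempty_iso (K : DerivedCategory.Bounded A) : Nonempty (F.obj K ≅ F'.obj K) := by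
  obtain ⟨⟨a, ha⟩, ⟨b, hb⟩⟩ := K.property
  obtain ⟨h, -⟩ := exists_iso F F' θ hv (b - a).toNat K a b ha hb (by omega)
  exact ⟨h.symm⟩

end Groth.Agent.Lib.TriFF.SiblingObj
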